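import Groth.Agent.Lib.Gonflement.Main
import Mathlib.FieldTheory.SeparableClosure
import Mathlib.RingTheory.Polynomial.GaussLemma
import Mathlib.RingTheory.DiscreteValuationRing.TFAE

/-!
# Unramified extensions of discrete valuation rings with generically separable relations
-/

universe u

noncomputable section

set_option linter.style.haveILetI false

namespace GrothLib.Gonflement

open IsLocalRing

variable {R : Type u} [CommRing R] {K : Type u} [Field K] [Algebra R K]
variable {ι : Type u} [LinearOrder ι] {x : ι → K}

/-- Changing the linear coefficient of a datum to `t` when it vanishes in `K`. -/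
theorem exists_sep_datum {i : ι} (D : Datum (R := R) x i) {t : R} (ht : algebraMap R K t = 0) :
    ∃ E : Datum (R := R) x i, E.f.natDegree = D.f.natDegree ∧
      (MvPolynomial.aeval (fun j : {j // j ∈ E.s} => x j) (E.f.coeff 1) ≠ 0 ∨
        E.f.coeff 1 = MvPolynomial.C t) := by
  by_cases h : MvPolynomial.aeval (fun j : {j // j ∈ D.s} => x j) (D.f.coeff 1) = 0
  swap
  · exact ⟨D, rfl, Or.inl h⟩
  haveI : Nontrivial R := (algebraMap R K).domain_nontrivial
  have hdeg : 1 < D.f.natDegree := by
    have h0 : D.f.natDegree ≠ 0 := fun h0 => by
      have := D.root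
      rw [D.monic.natDegree_eq_zero.mp h0, Polynomial.eval₂_one] at this
      exact one_ne_zero this
    rcases Nat.lt_or_ge 1 D.f.natDegree with h1 | h1
    · exact h1
    · have : D.f.natDegree = 1 := by omega
      have hc := D.monic.leadingCoeff
      rw [Polynomial.leadingCoeff, this] at hc
      rw [hc, map_one] at h
      exact absurd h one_ne_zero
  set q : Polynomial (MvPolynomial {j // j ∈ D.s} R) :=
    Polynomial.monomial 1 (MvPolynomial.C t - D.f.coeff 1) with hq
  have hqd : q.degree < D.f.degree := by
    rw [Polynomial.degree_eq_natDegree D.monic.ne_zero]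
    exact lt_of_le_of_lt (Polynomial.degree_monomial_le _ _) (by exact_mod_cast hdeg)
  refine ⟨⟨D.s, D.lt, D.f + q, D.monic.add_of_left hqd, ?_⟩,
    Polynomial.natDegree_add_eq_left_of_degree_lt hqd, Or.inr ?_⟩
  · rw [Polynomial.eval₂_add, D.root, hq, Polynomial.eval₂_monomial, zero_add, map_sub]
    simp [h, ht]
  · show (D.f + q).coeff 1 = _
    rw [Polynomial.coeff_add]
    simp only [q, Polynomial.coeff_monomial_same, add_sub_cancel]

/-- A Noetherian local ring whose maximal ideal is generated by a non-nilpotent element. -/
theorem dvr_of_principal {B : Type u} [CommRing B] [IsNoetherianRing B] [IsLocalRing B] {b : B}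
    (hb : maximalIdeal B = Ideal.span {b}) (hnil : ∀ n : ℕ, b ^ n ≠ 0) :
    ∃ _ : IsDomain B, IsDiscreteValuationRing B := by
  classical
  have key : ∀ z : B, z ≠ 0 → ∃ (n : ℕ) (v : B), IsUnit v ∧ z = v * b ^ n := by
    intro z hz
    have hex : ∃ n : ℕ, z ∉ maximalIdeal B ^ n := by
      by_contra hall
      push Not at hall
      have hmem : z ∈ (⨅ n : ℕ, maximalIdeal B ^ n) := Ideal.mem_iInf.2 hall
      rw [Ideal.iInf_pow_eq_bot_of_isLocalRing _ (maximalIdeal.isMaximal B).ne_top] at hmem
      exact hz ((Submodule.mem_bot B).1 hmem)
    rcases hn : Nat.find hex with _ | n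
    · have := Nat.find_spec hex
      rw [hn, pow_zero, Ideal.one_eq_top] at this
      exact absurd Submodule.mem_top this
    · have h1 : z ∈ maximalIdeal B ^ n := not_not.1 (Nat.find_min hex (hn ▸ Nat.lt_succ_self n))
      have h2 := Nat.find_spec hex
      rw [hn] at h2
      rw [hb, Ideal.span_singleton_pow, Ideal.mem_span_singleton'] at h1 h2
      obtain ⟨v, hv⟩ := h1
      refine ⟨n, v, ?_, hv.symm⟩
      by_contra hu
      have hvm : v ∈ maximalIdeal B := hu
      rw [hb, Ideal.mem_span_singleton'] at hvm
      obtain ⟨w, rfl⟩ := hvm
      exact h2 ⟨w, by rw [← hv]; ring⟩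
  haveI : IsDomain B := by
    haveI : NoZeroDivisors B := ⟨fun {z w} hzw => by
      by_contra hcon
      push Not at hcon
      obtain ⟨n, v, hv, rfl⟩ := key z hcon.1
      obtain ⟨m, v', hv', rfl⟩ := key w hcon.2
      refine hnil (n + m) ((hv.mul hv').mul_right_eq_zero.1 ?_)
      rw [← hzw]
      ring⟩
    exact NoZeroDivisors.to_isDomain B
  refine ⟨inferInstance, ((IsDiscreteValuationRing.TFAE B ?_).out 0 4).2 (show (maximalIdeal B).IsPrincipal from ⟨b, hb⟩)⟩
  intro hf
  have hm := IsLocalRing.isField_iff_maximalIdeal_eq.1 hf
  rw [hb, Ideal.span_singleton_eq_bot] at hm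
  exact hnil 1 (by simp [hm])

/-- A root of an irreducible monic relation with non-zero linear coefficient is separable. -/
theorem isSeparable_of_irreducible {K0 L A : Type*} [Field K0] [Field L] [Algebra K0 L]
    [CommRing A] [IsDomain A] [IsIntegrallyClosed A] (σ : A →+* L) (hσ : Function.Injective σ)
    (hA : ∀ a, σ a ∈ separableClosure K0 L) {g : Polynomial A} (hgm : g.Monic) (hirr : Irreducible g)
    (hg1c : g.coeff 1 ≠ 0) {z : L} (hz : g.eval₂ σ z = 0) : IsSeparable K0 z := by
  set gF := g.map (algebraMap A (FractionRing A)) with hgF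
  have hgFirr : Irreducible gF :=
    (hgm.irreducible_iff_irreducible_map_fraction_map).1 hirr
  have hgFsep : gF.Separable := by
    refine (Polynomial.separable_iff_derivative_ne_zero hgFirr).2 fun h0 => hg1c ?_
    have h1 := congrArg (Polynomial.coeff · 0) h0
    rw [Polynomial.coeff_derivative, hgF, Polynomial.coeff_map] at h1
    simpa using h1
  have hgLsep : (g.map σ).Separable := by
    have e : g.map σ = gF.map (IsFractionRing.lift (K := FractionRing A) hσ) := by
      rw [hgF, Polynomial.map_map]
      congr 1
      exact RingHom.ext fun a => (IsFractionRing.lift_algebraMap hσ a).symm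
    rw [e]
    exact hgFsep.map
  have hl : g.map σ ∈ Polynomial.lifts (algebraMap (separableClosure K0 L) L) := by
    rw [Polynomial.lifts_iff_coeff_lifts]
    intro n
    exact ⟨⟨_, hA (g.coeff n)⟩, by rw [Polynomial.coeff_map]; rfl⟩
  obtain ⟨gM, hgM⟩ := (Polynomial.mem_lifts _).1 hl
  have hgMsep : gM.Separable :=
    (Polynomial.separable_map (algebraMap (separableClosure K0 L) L)).1 (hgM ▸ hgLsep)
  have hsep : IsSeparable (separableClosure K0 L) z := by
    refine hgMsep.of_dvd (minpoly.dvd _ z ?_)
    rw [Polynomial.aeval_def, ← Polynomial.eval_map, hgM, Polynomial.eval_map, hz]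
  exact IsSeparable.of_algebra_isSeparable_of_isSeparable K0 hsep

/-- A separable element is a root of a generically separable polynomial over the base. -/
theorem exists_separable_poly {R L : Type*} [CommRing R] [IsDomain R] [Field L] [Algebra R L]
    [Algebra (FractionRing R) L] [IsScalarTower R (FractionRing R) L] {z : L}
    (hz : IsSeparable (FractionRing R) z) :
    ∃ p : Polynomial R, (p.map (algebraMap R (FractionRing R))).Separable ∧
      p.eval₂ (algebraMap R L) z = 0 := by
  obtain ⟨b, hb, hbe⟩ :=
    IsLocalization.integerNormalization_spec (nonZeroDivisors R) (minpoly (FractionRing R) z)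
  refine ⟨IsLocalization.integerNormalization (nonZeroDivisors R) (minpoly (FractionRing R) z), ?_, ?_⟩
  · rw [hbe, Algebra.smul_def, Polynomial.algebraMap_apply]
    exact Polynomial.Separable.unit_mul
      (Polynomial.isUnit_C.2 (IsLocalization.map_units _ (⟨b, hb⟩ : nonZeroDivisors R))) hz
  · have h := IsLocalization.integerNormalization_aeval_eq_zero (nonZeroDivisors R)
      (minpoly (FractionRing R) z) (minpoly.aeval _ z)
    rwa [Polynomial.aeval_def] at h

section main

variable [IsDomain R] [IsDiscreteValuationRing R] (x) [WellFoundedLT ι]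

set_option maxHeartbeats 1000000 in
/-- Every element of the union is separable over the fraction field. -/
theorem exists_dvr_separable
    (hk : RingHom.ker (algebraMap R K) = maximalIdeal R) (hx : ∀ i, IsIntegral R (x i))
    (hgen : Function.Surjective (MvPolynomial.aeval x : MvPolynomial ι R →ₐ[R] K)) :
    ∃ (B : Type u) (_ : CommRing B) (_ : IsDomain B) (_ : IsDiscreteValuationRing B) (φ : R →+* B)
      (ψ : B →+* K), Function.Injective φ ∧ IsLocalHom φ ∧
      (maximalIdeal R).map φ = maximalIdeal B ∧ Function.Surjective ψ ∧
      RingHom.ker ψ = maximalIdeal B ∧ ψ.comp φ = algebraMap R K ∧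
      ∀ y : B, ∃ p : Polynomial R,
        (p.map (algebraMap R (FractionRing R))).Separable ∧ p.eval₂ φ y = 0 := by
  classical
  obtain ⟨t, ht⟩ := IsDiscreteValuationRing.exists_irreducible R
  have hmt := ht.maximalIdeal_eq
  have htK : algebraMap R K t = 0 := by
    have : t ∈ RingHom.ker (algebraMap R K) := by rw [hk, hmt]; exact Ideal.mem_span_singleton_self t
    exact this
  choose D hD using fun i => exists_min_datum (R := R) x i (hx i)
  choose E hEd hEc using fun i => exists_sep_datum (D i) htK
  have hE : ∀ i (D' : Datum (R := R) x i), (E i).f.natDegree ≤ D'.f.natDegree := fun i D' =>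
    (hEd i).le.trans (hD i D')
  obtain ⟨hN, hL, hF, hS, hK⟩ := bigRing_spec x E hk hE hgen
  set B := BigRing x E
  have hmB : (maximalIdeal R).map (algebraMap R B) = maximalIdeal B :=
    hK.symm.trans (IsLocalRing.eq_maximalIdeal (RingHom.ker_isMaximal_of_surjective _ hS))
  have hloc : IsLocalHom (algebraMap R B) := ((IsLocalRing.local_hom_TFAE _).out 0 2).2 hmB.le
  haveI : Module.Flat R B := RingHom.flat_algebraMap_iff.1 hF
  haveI : IsLocalHom (algebraMap R B) := hloc
  haveI : Module.FaithfullyFlat R B := Module.FaithfullyFlat.of_flat_of_isLocalHom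
  have hinj : Function.Injective (algebraMap R B) := FaithfulSMul.algebraMap_injective R B
  have htn : ∀ n : ℕ, algebraMap R B t ^ n ≠ 0 := fun n h => by
    rw [← map_pow, ← map_zero (algebraMap R B)] at h
    exact pow_ne_zero n ht.ne_zero (hinj h)
  obtain ⟨hBdom, hBdvr⟩ := dvr_of_principal (b := algebraMap R B t)
    (by rw [← hmB, hmt, Ideal.map_span, Set.image_singleton]) htn
  refine ⟨B, inferInstance, hBdom, hBdvr, algebraMap R B, (bigEval x E).toRingHom, hinj, hloc, hmB,
    hS, hK.trans hmB, (bigEval x E).comp_algebraMap, ?_⟩
  -- separability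
  set L := FractionRing B
  let K0 := FractionRing R
  haveI : IsScalarTower R B L := inferInstance
  haveI : FaithfulSMul R L := (faithfulSMul_iff_algebraMap_injective R L).2
    (by rw [IsScalarTower.algebraMap_eq R B L, RingHom.coe_comp]; exact (IsFractionRing.injective B L).comp hinj)
  letI : Algebra K0 L := FractionRing.liftAlgebra R L
  haveI : IsScalarTower R K0 L := FractionRing.isScalarTower_liftAlgebra R L
  let xb : ι → L := fun i => algebraMap B L (Ideal.Quotient.mk _ (MvPolynomial.X i))
  have hxb : ∀ i, IsSeparable K0 (xb i) := by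
    intro i
    induction i using WellFoundedLT.induction with
    | _ i ih =>
      obtain ⟨T, hsT, hT⟩ := exists_closed_superset x E (E i).s
      let S : Stage x E := ⟨T.filter (· < i), fun j hj l hl => Finset.mem_filter.2
        ⟨hT j (Finset.mem_filter.1 hj).1 hl, ((E j).lt l hl).trans (Finset.mem_filter.1 hj).2⟩⟩
      have hsS : (E i).s ⊆ S.1 := fun j hj => Finset.mem_filter.2 ⟨hsT hj, (E i).lt j hj⟩
      have hSlt : ∀ j ∈ S.1, j < i := fun j hj => (Finset.mem_filter.1 hj).2
      obtain ⟨hAloc, hmA⟩ := isLocalRing_stage x E hk hE S
      haveI := hAloc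
      haveI := (good x E hk hE _ S rfl).1
      set A := (toBig x E S).range with hA
      let θ : MvPolynomial {j // j ∈ S.1} R →+* A :=
        (toBig x E S).rangeRestrict.toRingHom.comp (Ideal.Quotient.mk _)
      have hθ : Function.Surjective θ :=
        ((toBig x E S).rangeRestrict_surjective).comp Ideal.Quotient.mk_surjective
      have hθK : ∀ p, bigEval x E (θ p : B) = MvPolynomial.aeval (fun j : {j // j ∈ S.1} => x j) p :=
        fun p => stageEval_mk x E S p
      haveI : IsNoetherianRing A :=
        isNoetherianRing_of_surjective _ _ (toBig x E S).rangeRestrict.toRingHom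
          (toBig x E S).rangeRestrict_surjective
      haveI : IsLocalRing A :=
        IsLocalRing.of_surjective' (toBig x E S).rangeRestrict.toRingHom
          (toBig x E S).rangeRestrict_surjective
      have hmA' : maximalIdeal A =
          Ideal.span {algebraMap R A t} := by
        have h1 : (maximalIdeal (StageRing x E S)).map (toBig x E S).rangeRestrict.toRingHom =
            maximalIdeal A :=
          IsLocalRing.map_maximalIdeal_of_surjective _ (toBig x E S).rangeRestrict_surjective
        rw [← h1, hmA, Ideal.map_map, hmt, Ideal.map_span, Set.image_singleton]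
        exact congrArg (fun z => Ideal.span {z}) ((toBig x E S).rangeRestrict.commutes t)
      obtain ⟨hAdom, hAdvr⟩ := dvr_of_principal hmA' fun n h => htn n (congrArg Subtype.val h)
      -- the relation over `A`
      let ρ : MvPolynomial {j // j ∈ (E i).s} R →+* A :=
        θ.comp (MvPolynomial.rename (incl hsS) : _ →ₐ[R] _).toRingHom
      set g : Polynomial A := (E i).f.map ρ with hg
      have hgm : g.Monic := (E i).monic.map _
      have hρK : ∀ p, bigEval x E (ρ p : B) =
          MvPolynomial.aeval (fun j : {j // j ∈ (E i).s} => x j) p := by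
        intro p
        refine (hθK _).trans ?_
        rw [AlgHom.toRingHom_eq_coe, RingHom.coe_coe, MvPolynomial.aeval_rename]
        rfl
      let χ : A →+* K := (bigEval x E).toRingHom.comp A.val.toRingHom
      have hgroot : g.eval₂ χ (x i) = 0 := by
        rw [hg, Polynomial.eval₂_map]
        refine (Polynomial.eval₂_congr (RingHom.ext fun p => ?_) rfl rfl).trans (E i).root
        exact hρK p
      have hg1 : g ≠ 1 := fun h => by simp [h] at hgroot
      have hirr : Irreducible g := by
        refine (Polynomial.irreducible_of_monic hgm hg1).2 fun p q hp hq hpq => ?_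
        by_contra hcon
        push Not at hcon
        have hroot : p.eval₂ χ (x i) = 0 ∨ q.eval₂ χ (x i) = 0 := by
          rw [← mul_eq_zero, ← Polynomial.eval₂_mul, hpq]
          exact hgroot
        have hlt : ∀ p q : Polynomial A, p.Monic → q.Monic → p * q = g → q ≠ 1 →
            p.eval₂ χ (x i) = 0 → False := by
          intro p q hp hq hpq hq1 h0
          have hd := hp.natDegree_mul hq
          rw [hpq] at hd
          have hq0 : q.natDegree ≠ 0 := fun h => hq1 (hq.natDegree_eq_zero.mp h)
          have hgd : g.natDegree ≤ (E i).f.natDegree := Polynomial.natDegree_map_le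
          have hl : p ∈ Polynomial.lifts θ := by
            rw [Polynomial.lifts_iff_coeff_lifts]
            exact fun n => hθ _
          obtain ⟨p', hp1, hp2, hp3⟩ := Polynomial.lifts_and_natDegree_eq_and_monic hl hp
          have hle := hE i ⟨S.1, hSlt, p', hp3, ?_⟩
          · simp only at hle
            omega
          · rw [← h0, ← hp1, Polynomial.eval₂_map]
            exact Polynomial.eval₂_congr (RingHom.ext fun w => (hθK w).symm) rfl rfl
        rcases hroot with h0 | h0
        · exact hlt p q hp hq hpq hcon.2 h0
        · exact hlt q p hq hp ((mul_comm q p).trans hpq) hcon.1 h0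
      have hg1c : g.coeff 1 ≠ 0 := by
        rw [hg, Polynomial.coeff_map]
        intro h0
        have h0' : (ρ ((E i).f.coeff 1) : B) = 0 := congrArg Subtype.val h0
        rcases hEc i with hc | hc
        · apply hc
          rw [← hρK, h0', map_zero]
        · rw [hc] at h0'
          apply htn 1
          rw [pow_one, ← h0']
          show _ = toBig x E S (Ideal.Quotient.mk _ (MvPolynomial.rename (incl hsS) (MvPolynomial.C t)))
          rw [MvPolynomial.rename_C]
          exact ((toBig x E S).commutes t).symm
      refine isSeparable_of_irreducible ((algebraMap B L).comp A.val.toRingHom)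
        ((IsFractionRing.injective B L).comp Subtype.val_injective) (fun a => ?_) hgm hirr hg1c ?_
      · obtain ⟨p, rfl⟩ := hθ a
        induction p using MvPolynomial.induction_on with
        | C r =>
          have e : ((algebraMap B L).comp A.val.toRingHom) (θ (MvPolynomial.C r)) = algebraMap R L r :=
            (congrArg (algebraMap B L) ((toBig x E S).commutes r)).trans
              (IsScalarTower.algebraMap_apply R B L r).symm
          rw [e, IsScalarTower.algebraMap_apply R K0 L]
          exact IntermediateField.algebraMap_mem _ _
        | add p q hp hq => rw [map_add, map_add]; exact add_mem hp hq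
        | mul_X p j hp =>
          rw [map_mul, map_mul]
          refine mul_mem hp ?_
          have e : ((algebraMap B L).comp A.val.toRingHom) (θ (MvPolynomial.X j)) = xb (j : ι) := by
            show algebraMap B L (Ideal.Quotient.mk _ (MvPolynomial.rename Subtype.val
              (MvPolynomial.X j))) = _
            rw [MvPolynomial.rename_X]
          rw [e]
          exact mem_separableClosure_iff.2 (ih j (hSlt j j.2))
      · rw [hg, Polynomial.eval₂_map]
        have h := congrArg (algebraMap B L) ((Ideal.Quotient.eq_zero_iff_mem
          (I := Ideal.span (Set.range (rel x E)))).2 (Ideal.subset_span ⟨i, rfl⟩))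
        rw [map_zero, rel, Polynomial.hom_eval₂, Polynomial.hom_eval₂] at h
        refine (Polynomial.eval₂_congr ?_ rfl rfl).trans h
        refine MvPolynomial.ringHom_ext (fun r => ?_) fun j => ?_
        · show algebraMap B L (Ideal.Quotient.mk _ (MvPolynomial.rename Subtype.val
            (MvPolynomial.rename (incl hsS) (MvPolynomial.C r)))) =
            algebraMap B L (Ideal.Quotient.mk _ (MvPolynomial.rename Subtype.val (MvPolynomial.C r)))
          simp only [MvPolynomial.rename_C]
        · show algebraMap B L (Ideal.Quotient.mk _ (MvPolynomial.rename Subtype.val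
            (MvPolynomial.rename (incl hsS) (MvPolynomial.X j)))) =
            algebraMap B L (Ideal.Quotient.mk _ (MvPolynomial.rename Subtype.val (MvPolynomial.X j)))
          simp only [MvPolynomial.rename_X]
          rfl
  have hBM : ∀ y : B, algebraMap B L y ∈ separableClosure K0 L := by
    intro y
    obtain ⟨p, rfl⟩ := Ideal.Quotient.mk_surjective y
    induction p using MvPolynomial.induction_on with
    | C r =>
      have e : algebraMap B L (Ideal.Quotient.mk _ (MvPolynomial.C r)) = algebraMap R L r := rfl
      rw [e, IsScalarTower.algebraMap_apply R K0 L]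
      exact IntermediateField.algebraMap_mem _ _
    | add p q hp hq => rw [map_add, map_add]; exact add_mem hp hq
    | mul_X p j hp =>
      rw [map_mul, map_mul]
      exact mul_mem hp (mem_separableClosure_iff.2 (hxb j))
  intro y
  obtain ⟨p, hp1, hp2⟩ := exists_separable_poly (R := R) (mem_separableClosure_iff.1 (hBM y))
  refine ⟨p, hp1, IsFractionRing.injective B L ?_⟩
  rw [Polynomial.hom_eval₂, map_zero, ← IsScalarTower.algebraMap_eq]
  exact hp2

end main

end GrothLib.Gonflement
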