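import Groth.Agent.Lib.Gonflement.Limit
import Mathlib.RingTheory.AdjoinRoot
import Mathlib.RingTheory.Polynomial.Basic
import Mathlib.RingTheory.Ideal.GoingUp
import Mathlib.RingTheory.Algebraic.Integral
import Mathlib.Algebra.MvPolynomial.CommRing
import Mathlib.Algebra.Polynomial.Lifts

/-!
# Flat local extensions with prescribed algebraic residue extension

`R` a Noetherian local ring, `K` a field with `ker (R → K) = 𝔪`, generated by a well-ordered family
of integral elements `x`. Each `x i` gets a monic relation of least degree over the earlier ones.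
-/

universe u

noncomputable section

namespace GrothLib.Gonflement

open IsLocalRing MvPolynomial

variable {R : Type u} [CommRing R] {K : Type u} [Field K] [Algebra R K]
variable {ι : Type u} [LinearOrder ι] (x : ι → K)

/-- A monic relation for `x i` with coefficients in finitely many earlier generators. -/
structure Datum (i : ι) where
  s : Finset ι
  lt : ∀ j ∈ s, j < i
  f : Polynomial (MvPolynomial {j // j ∈ s} R)
  monic : f.Monic
  root : f.eval₂ (aeval fun j : {j // j ∈ s} => x j : MvPolynomial _ R →ₐ[R] K).toRingHom (x i) = 0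

theorem exists_min_datum (i : ι) (h : IsIntegral R (x i)) :
    ∃ D : Datum (R := R) x i, ∀ D' : Datum (R := R) x i, D.f.natDegree ≤ D'.f.natDegree := by
  classical
  obtain ⟨q, hq, hq0⟩ := h
  have hex : ∃ d, ∃ D : Datum (R := R) x i, D.f.natDegree = d := by
    refine ⟨_, ⟨∅, by simp, q.map C, hq.map _, ?_⟩, rfl⟩
    rw [Polynomial.eval₂_map]
    refine (Polynomial.eval₂_congr (RingHom.ext fun r => ?_) rfl rfl).trans hq0
    simp
  obtain ⟨D, hD⟩ := Nat.find_spec hex
  exact ⟨D, fun D' => hD.le.trans (Nat.find_min' hex ⟨D', rfl⟩)⟩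

variable (D : ∀ i, Datum (R := R) x i)

/-- A finite set of indices containing the supports of its members. -/
def IsClosedSet (S : Finset ι) : Prop := ∀ i ∈ S, (D i).s ⊆ S

theorem exists_closed_superset [WellFoundedLT ι] (S : Finset ι) :
    ∃ T, S ≤ T ∧ IsClosedSet x D T := by
  classical
  have key : ∀ i, ∃ T : Finset ι, i ∈ T ∧ IsClosedSet x D T := by
    intro i
    induction i using WellFoundedLT.induction with
    | _ i ih =>
      choose T hT1 hT2 using fun j : {j // j ∈ (D i).s} => ih j ((D i).lt j j.2)
      refine ⟨insert i ((D i).s.attach.biUnion T), Finset.mem_insert_self _ _, fun j hj k hk => ?_⟩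
      rw [Finset.mem_insert, Finset.mem_biUnion] at hj ⊢
      rcases hj with rfl | ⟨l, -, hl⟩
      · exact Or.inr ⟨⟨k, hk⟩, Finset.mem_attach _ _, hT1 ⟨k, hk⟩⟩
      · exact Or.inr ⟨l, Finset.mem_attach _ _, hT2 l j hl hk⟩
  choose T hT1 hT2 using key
  refine ⟨S.biUnion T, fun i hi => Finset.mem_biUnion.2 ⟨i, hi, hT1 i⟩, fun j hj k hk => ?_⟩
  obtain ⟨l, hl, hjl⟩ := Finset.mem_biUnion.1 hj
  exact Finset.mem_biUnion.2 ⟨l, hl, hT2 l j hjl hk⟩

/-- The stages. -/
abbrev Stage := {S : Finset ι // IsClosedSet x D S}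

variable {x D}

/-- Inclusion of index sets. -/
def incl {S T : Finset ι} (h : S ⊆ T) : {j // j ∈ S} → {j // j ∈ T} := fun j => ⟨j, h j.2⟩

variable (x D)

/-- The relation of `x i` in a stage. -/
def relS (S : Stage x D) (i : {j // j ∈ S.1}) : MvPolynomial {j // j ∈ S.1} R :=
  (D i).f.eval₂ (rename (incl (S.2 i i.2)) : _ →ₐ[R] _).toRingHom (X i)

/-- The ring of a stage. -/
abbrev StageRing (S : Stage x D) : Type u :=
  MvPolynomial {j // j ∈ S.1} R ⧸ Ideal.span (Set.range (relS x D S))

/-- The global relation of `x i`. -/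
def rel (i : ι) : MvPolynomial ι R :=
  (D i).f.eval₂ (rename Subtype.val : _ →ₐ[R] _).toRingHom (X i)

/-- The big ring. -/
abbrev BigRing : Type u := MvPolynomial ι R ⧸ Ideal.span (Set.range (rel x D))

theorem aeval_rel (i : ι) : aeval x (rel x D i) = 0 := by
  show (aeval x : MvPolynomial ι R →ₐ[R] K).toRingHom (rel x D i) = 0
  rw [rel, Polynomial.hom_eval₂]
  convert (D i).root using 2
  · refine MvPolynomial.ringHom_ext (fun r => ?_) fun j => ?_ <;> simp
  · simp

theorem rename_incl_relS {S T : Stage x D} (h : S.1 ⊆ T.1) (i : {j // j ∈ S.1}) :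
    rename (incl h) (relS x D S i) = relS x D T (incl h i) := by
  show (rename (incl h) : _ →ₐ[R] _).toRingHom (relS x D S i) = _
  rw [relS, relS, Polynomial.hom_eval₂]
  refine Polynomial.eval₂_congr ?_ ?_ rfl
  · refine MvPolynomial.ringHom_ext (fun r => ?_) fun j => ?_
    · show rename (incl h) (rename (incl (S.2 i i.2)) (C r)) = rename _ (C r)
      rw [rename_C, rename_C, rename_C]
    · show rename (incl h) (rename (incl (S.2 i i.2)) (X j)) = rename _ (X j)
      rw [rename_X, rename_X, rename_X]
      rfl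
  · exact rename_X _ _

theorem rename_val_relS (S : Stage x D) (i : {j // j ∈ S.1}) :
    rename Subtype.val (relS x D S i) = rel x D i := by
  show (rename Subtype.val : _ →ₐ[R] _).toRingHom (relS x D S i) = _
  rw [relS, rel, Polynomial.hom_eval₂]
  congr 1
  · refine MvPolynomial.ringHom_ext (fun r => ?_) fun j => ?_ <;> simp [incl]
  · simp

/-- Transition maps. -/
def trans {S T : Stage x D} (h : S.1 ⊆ T.1) : StageRing x D S →ₐ[R] StageRing x D T :=
  Ideal.quotientMapₐ _ (rename (incl h)) (by
    rw [Ideal.span_le]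
    rintro _ ⟨i, rfl⟩
    rw [SetLike.mem_coe, Ideal.mem_comap, rename_incl_relS]
    exact Ideal.subset_span ⟨_, rfl⟩)

theorem trans_mk {S T : Stage x D} (h : S.1 ⊆ T.1) (p : MvPolynomial {j // j ∈ S.1} R) :
    trans x D h (Ideal.Quotient.mk _ p) = Ideal.Quotient.mk _ (rename (incl h) p) := rfl

/-- From a stage to the big ring. -/
def toBig (S : Stage x D) : StageRing x D S →ₐ[R] BigRing x D :=
  Ideal.quotientMapₐ _ (rename Subtype.val) (by
    rw [Ideal.span_le]
    rintro _ ⟨i, rfl⟩
    rw [SetLike.mem_coe, Ideal.mem_comap, rename_val_relS]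
    exact Ideal.subset_span ⟨_, rfl⟩)

/-- From the big ring to `K`. -/
def bigEval : BigRing x D →ₐ[R] K :=
  Ideal.Quotient.liftₐ _ (aeval x) (by
    intro a ha
    refine (Ideal.span_le (I := RingHom.ker (aeval x : MvPolynomial ι R →ₐ[R] K))).2 ?_ ha
    rintro _ ⟨i, rfl⟩
    exact aeval_rel x D i)

/-- Evaluation on a stage. -/
def stageEval (S : Stage x D) : StageRing x D S →ₐ[R] K := (bigEval x D).comp (toBig x D S)

theorem stageEval_mk (S : Stage x D) (p : MvPolynomial {j // j ∈ S.1} R) :
    stageEval x D S (Ideal.Quotient.mk _ p) = aeval (fun j : {j // j ∈ S.1} => x j) p := by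
  show aeval x (rename Subtype.val p) = _
  rw [aeval_rename]
  rfl

section step

variable {S T : Stage x D} (a : ι) (ha : a ∉ S.1) (hT : T.1 = insert a S.1)

include hT in
theorem step_sub : S.1 ⊆ T.1 := hT ▸ Finset.subset_insert a S.1

include hT in
theorem step_mem : a ∈ T.1 := hT ▸ Finset.mem_insert_self a S.1

include ha hT in
theorem step_supp : (D a).s ⊆ S.1 := fun j hj => by
  have := T.2 a (step_mem x D a hT) hj
  rw [hT, Finset.mem_insert] at this
  exact this.resolve_left ((D a).lt j hj).ne

/-- The relation of `a` over the smaller stage. -/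
def stepPoly : Polynomial (StageRing x D S) :=
  (D a).f.map ((Ideal.Quotient.mk _).comp
    (rename (incl (step_supp x D a ha hT)) : _ →ₐ[R] _).toRingHom)

theorem stepPoly_monic : (stepPoly x D a ha hT).Monic := (D a).monic.map _

/-- `AdjoinRoot → next stage`. -/
def stepHom : AdjoinRoot (stepPoly x D a ha hT) →+* StageRing x D T :=
  AdjoinRoot.lift (trans x D (step_sub x D a hT)).toRingHom
    (Ideal.Quotient.mk _ (X ⟨a, step_mem x D a hT⟩)) (by
      rw [stepPoly, Polynomial.eval₂_map]
      have h : Ideal.Quotient.mk (Ideal.span (Set.range (relS x D T)))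
          (relS x D T ⟨a, step_mem x D a hT⟩) = 0 :=
        Ideal.Quotient.eq_zero_iff_mem.2 (Ideal.subset_span ⟨_, rfl⟩)
      rw [relS, Polynomial.hom_eval₂] at h
      refine (Polynomial.eval₂_congr ?_ rfl rfl).trans h
      refine MvPolynomial.ringHom_ext (fun r => ?_) fun j => ?_
      · show trans x D (step_sub x D a hT) (Ideal.Quotient.mk (Ideal.span (Set.range (relS x D S)))
          (rename (incl (step_supp x D a ha hT)) (C r))) = Ideal.Quotient.mk _ (rename _ (C r))
        rw [trans_mk, rename_C, rename_C, rename_C]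
      · show trans x D (step_sub x D a hT) (Ideal.Quotient.mk (Ideal.span (Set.range (relS x D S)))
          (rename (incl (step_supp x D a ha hT)) (X j))) = Ideal.Quotient.mk _ (rename _ (X j))
        rw [trans_mk, rename_X, rename_X, rename_X]
        rfl)

theorem stepHom_of (y : StageRing x D S) :
    stepHom x D a ha hT (AdjoinRoot.of _ y) = trans x D (step_sub x D a hT) y :=
  AdjoinRoot.lift_of _

theorem stepHom_bijective : Function.Bijective (stepHom x D a ha hT) := by
  classical
  let v : {j // j ∈ T.1} → AdjoinRoot (stepPoly x D a ha hT) := fun j =>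
    if h : (j : ι) ∈ S.1 then AdjoinRoot.of _ (Ideal.Quotient.mk _ (X ⟨j, h⟩))
    else AdjoinRoot.root _
  have hva : ∀ h, v ⟨a, h⟩ = AdjoinRoot.root _ := fun h => dif_neg ha
  have hvS : ∀ (j : {j // j ∈ S.1}), v (incl (step_sub x D a hT) j) =
      AdjoinRoot.of _ (Ideal.Quotient.mk _ (X j)) := fun j => dif_pos j.2
  let φ₀ : MvPolynomial {j // j ∈ T.1} R →+* AdjoinRoot (stepPoly x D a ha hT) :=
    eval₂Hom ((AdjoinRoot.of _).comp (algebraMap R (StageRing x D S))) v
  have hφS : φ₀.comp (rename (incl (step_sub x D a hT)) : _ →ₐ[R] _).toRingHom =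
      (AdjoinRoot.of _).comp (Ideal.Quotient.mk _) := by
    refine MvPolynomial.ringHom_ext (fun r => ?_) fun j => ?_
    · simp only [RingHom.comp_apply, AlgHom.toRingHom_eq_coe, RingHom.coe_coe, rename_C, φ₀,
        eval₂Hom_C]
      rfl
    · simp only [RingHom.comp_apply, AlgHom.toRingHom_eq_coe, RingHom.coe_coe, rename_X, φ₀,
        eval₂Hom_X']
      exact hvS j
  have hrel : ∀ i : {j // j ∈ T.1}, φ₀ (relS x D T i) = 0 := by
    rintro ⟨i, hi⟩
    by_cases hiS : i ∈ S.1
    · have e : relS x D T ⟨i, hi⟩ = rename (incl (step_sub x D a hT)) (relS x D S ⟨i, hiS⟩) :=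
        (rename_incl_relS x D (step_sub x D a hT) ⟨i, hiS⟩).symm
      have := RingHom.congr_fun hφS (relS x D S ⟨i, hiS⟩)
      simp only [RingHom.comp_apply, AlgHom.toRingHom_eq_coe, RingHom.coe_coe] at this
      rw [e, this, (Ideal.Quotient.eq_zero_iff_mem (I := Ideal.span (Set.range (relS x D S)))).2
        (Ideal.subset_span ⟨_, rfl⟩), map_zero]
    · have hia : i = a := (Finset.mem_insert.1 (hT.subset hi)).resolve_right hiS
      subst hia
      rw [relS, Polynomial.hom_eval₂]
      have h0 := AdjoinRoot.eval₂_root (stepPoly x D i ha hT)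
      rw [stepPoly, Polynomial.eval₂_map] at h0
      refine (Polynomial.eval₂_congr ?_ ?_ rfl).trans h0
      · refine MvPolynomial.ringHom_ext (fun r => ?_) fun j => ?_
        · show φ₀ (rename (incl (T.2 i hi)) (C r)) = AdjoinRoot.of _ (Ideal.Quotient.mk _
            (rename (incl (step_supp x D i ha hT)) (C r)))
          rw [rename_C, rename_C]
          exact eval₂Hom_C _ _ r
        · show φ₀ (rename (incl (T.2 i hi)) (X j)) = AdjoinRoot.of _ (Ideal.Quotient.mk _
            (rename (incl (step_supp x D i ha hT)) (X j)))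
          rw [rename_X, rename_X]
          exact (eval₂Hom_X' _ _ _).trans (hvS ⟨j, step_supp x D i ha hT j.2⟩)
      · simp only [φ₀, eval₂Hom_X']
        exact hva _
  let φ : StageRing x D T →+* AdjoinRoot (stepPoly x D a ha hT) :=
    Ideal.Quotient.lift _ φ₀ fun y hy => by
      refine (Ideal.span_le (I := RingHom.ker φ₀)).2 ?_ hy
      rintro _ ⟨i, rfl⟩
      exact hrel i
  have h1 : φ.comp (stepHom x D a ha hT) = RingHom.id _ := by
    refine RingHom.ext fun z => ?_
    induction z using AdjoinRoot.induction_on with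
    | ih q =>
      induction q using Polynomial.induction_on' with
      | add p q hp hq => simp only [map_add, hp, hq]
      | monomial n y =>
        obtain ⟨p, rfl⟩ := Ideal.Quotient.mk_surjective y
        rw [← Polynomial.C_mul_X_pow_eq_monomial, map_mul, map_pow, AdjoinRoot.mk_C,
          AdjoinRoot.mk_X, map_mul, map_pow]
        congr 1
        · rw [RingHom.comp_apply, stepHom_of, trans_mk]
          exact RingHom.congr_fun hφS p
        · congr 1
          rw [RingHom.comp_apply, stepHom, AdjoinRoot.lift_root]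
          simp only [φ, Ideal.Quotient.lift_mk, φ₀, eval₂Hom_X', RingHom.id_apply]
          exact hva _
  have h2 : (stepHom x D a ha hT).comp φ = RingHom.id _ := by
    refine Ideal.Quotient.ringHom_ext (MvPolynomial.ringHom_ext (fun r => ?_) fun j => ?_)
    · simp only [RingHom.comp_apply, φ, Ideal.Quotient.lift_mk, φ₀, eval₂Hom_C, stepHom_of,
        RingHom.id_apply]
      rw [AlgHom.commutes]
      rfl
    · simp only [RingHom.comp_apply, φ, Ideal.Quotient.lift_mk, φ₀, eval₂Hom_X', RingHom.id_apply]
      by_cases hj : (j : ι) ∈ S.1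
      · simp only [v, dif_pos hj, stepHom_of, trans_mk, rename_X]
        rfl
      · have hja : (j : ι) = a := (Finset.mem_insert.1 (hT.subset j.2)).resolve_right hj
        simp only [v, dif_neg hj, stepHom, AdjoinRoot.lift_root]
        exact congrArg _ (congrArg X (Subtype.ext hja.symm))
  exact ⟨Function.LeftInverse.injective (RingHom.congr_fun h1),
    Function.RightInverse.surjective (RingHom.congr_fun h2)⟩

include ha hT in
theorem step_flat : (trans x D (step_sub x D a hT)).toRingHom.Flat ∧
    (trans x D (step_sub x D a hT)).toRingHom.Finite := by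
  have e : (trans x D (step_sub x D a hT)).toRingHom =
      (stepHom x D a ha hT).comp (AdjoinRoot.of _) :=
    RingHom.ext fun y => (stepHom_of x D a ha hT y).symm
  rw [e]
  haveI := (stepPoly_monic x D a ha hT).free_adjoinRoot
  haveI := (stepPoly_monic x D a ha hT).finite_adjoinRoot
  refine ⟨RingHom.Flat.comp ?_ (RingHom.Flat.of_bijective (stepHom_bijective x D a ha hT)),
    RingHom.Finite.comp (RingHom.Finite.of_surjective _ (stepHom_bijective x D a ha hT).2) ?_⟩
  · rw [← AdjoinRoot.algebraMap_eq, RingHom.flat_algebraMap_iff]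
    infer_instance
  · rw [← AdjoinRoot.algebraMap_eq, RingHom.finite_algebraMap]
    infer_instance

end step

theorem trans_refl (S : Stage x D) (y : StageRing x D S) :
    trans x D (S := S) (T := S) (fun _ h => h) y = y := by
  obtain ⟨p, rfl⟩ := Ideal.Quotient.mk_surjective y
  rw [trans_mk]
  exact congrArg _ (rename_id_apply p)

theorem trans_trans {S T U : Stage x D} (h1 : S.1 ⊆ T.1) (h2 : T.1 ⊆ U.1) (y : StageRing x D S) :
    trans x D h2 (trans x D h1 y) = trans x D (h1.trans h2) y := by
  obtain ⟨p, rfl⟩ := Ideal.Quotient.mk_surjective y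
  rw [trans_mk, trans_mk, trans_mk, rename_rename]
  rfl

theorem toBig_trans {S T : Stage x D} (h : S.1 ⊆ T.1) (y : StageRing x D S) :
    toBig x D T (trans x D h y) = toBig x D S y := by
  obtain ⟨p, rfl⟩ := Ideal.Quotient.mk_surjective y
  show Ideal.Quotient.mk _ (rename Subtype.val (rename (incl h) p)) = _
  rw [rename_rename]
  rfl

theorem flat_trans : ∀ (n : ℕ) {S T : Stage x D} (h : S.1 ⊆ T.1), (T.1 \ S.1).card = n →
    (trans x D h).toRingHom.Flat := by
  intro n
  induction n using Nat.strong_induction_on with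
  | _ n ih =>
    intro S T h hn
    by_cases he : T.1 \ S.1 = ∅
    · have hST : S = T := Subtype.ext (Finset.Subset.antisymm h (Finset.sdiff_eq_empty_iff_subset.1 he))
      subst hST
      refine RingHom.Flat.of_bijective ?_
      exact ⟨fun p q hpq => by simpa [trans_refl] using hpq, fun p => ⟨p, trans_refl x D S p⟩⟩
    · have hne : (T.1 \ S.1).Nonempty := Finset.nonempty_iff_ne_empty.2 he
      set a := (T.1 \ S.1).min' hne with haa
      obtain ⟨haT, haS⟩ := Finset.mem_sdiff.1 ((T.1 \ S.1).min'_mem hne)
      have hS' : IsClosedSet x D (insert a S.1) := by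
        intro i hi j hj
        rw [Finset.mem_insert] at hi ⊢
        rcases hi with rfl | hi
        · by_contra hcon
          push Not at hcon
          exact absurd (Finset.min'_le _ j (Finset.mem_sdiff.2 ⟨T.2 _ haT hj, hcon.2⟩))
            (not_le.2 ((D _).lt j hj))
        · exact Or.inr (S.2 i hi hj)
      let S' : Stage x D := ⟨insert a S.1, hS'⟩
      have h' : S'.1 ⊆ T.1 := Finset.insert_subset haT h
      have e : (trans x D h).toRingHom =
          (trans x D h').toRingHom.comp (trans x D (step_sub x D a (T := S') rfl)).toRingHom :=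
        RingHom.ext fun y => (trans_trans x D _ _ y).symm
      rw [e]
      refine RingHom.Flat.comp (step_flat x D a haS (T := S') rfl).1 (ih _ ?_ h' rfl)
      rw [← hn]
      refine Finset.card_lt_card (Finset.ssubset_iff_of_subset ?_ |>.2 ⟨a, ?_, ?_⟩)
      · exact Finset.sdiff_subset_sdiff le_rfl (Finset.subset_insert _ _)
      · exact Finset.mem_sdiff.2 ⟨haT, haS⟩
      · simp [S']

variable [IsLocalRing R]

theorem isMaximal_ker_stageEval (S : Stage x D) [Module.Finite R (StageRing x D S)]
    (hk : RingHom.ker (algebraMap R K) = maximalIdeal R) :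
    (RingHom.ker (stageEval x D S)).IsMaximal := by
  haveI : Algebra.IsIntegral R (StageRing x D S) := inferInstance
  haveI : (RingHom.ker (stageEval x D S)).IsPrime := RingHom.ker_isPrime _
  refine Ideal.isMaximal_of_isIntegral_of_isMaximal_comap (R := R) _ ?_
  have : (RingHom.ker (stageEval x D S)).comap (algebraMap R (StageRing x D S)) = maximalIdeal R := by
    rw [← hk]
    ext r
    simp [RingHom.mem_ker]
  rw [this]
  exact maximalIdeal.isMaximal R

/-- A stage is good: finite with the expected residue field. -/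
def Good (S : Stage x D) : Prop :=
  Module.Finite R (StageRing x D S) ∧
    RingHom.ker (stageEval x D S) = (maximalIdeal R).map (algebraMap R (StageRing x D S))

variable (hk : RingHom.ker (algebraMap R K) = maximalIdeal R)
  (hD : ∀ i (D' : Datum (R := R) x i), (D i).f.natDegree ≤ D'.f.natDegree)

include hk hD

theorem good_step {S T : Stage x D} (a : ι) (ha : a ∉ S.1) (hT : T.1 = insert a S.1)
    (hmax : ∀ j ∈ S.1, j < a) (hS : Good x D S) : Good x D T := by
  classical
  haveI := hS.1
  have hfin : (algebraMap R (StageRing x D T)).Finite := by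
    rw [← AlgHom.comp_algebraMap (trans x D (step_sub x D a hT))]
    exact RingHom.Finite.comp (step_flat x D a ha hT).2 (RingHom.finite_algebraMap.2 hS.1)
  haveI := RingHom.finite_algebraMap.1 hfin
  refine ⟨inferInstance, le_antisymm (fun y hy => ?_) ?_⟩
  swap
  · rw [Ideal.map_le_iff_le_comap]
    intro r hr
    rw [Ideal.mem_comap, RingHom.mem_ker, AlgHom.commutes]
    rw [← hk] at hr
    exact hr
  obtain ⟨z, rfl⟩ := (stepHom_bijective x D a ha hT).2 y
  obtain ⟨q, rfl⟩ := AdjoinRoot.mk_surjective z
  set p := stepPoly x D a ha hT with hp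
  have hpm := stepPoly_monic x D a ha hT
  -- evaluation
  let β := (stageEval x D S).toRingHom
  have hev : ∀ r : Polynomial (StageRing x D S),
      stageEval x D T (stepHom x D a ha hT (AdjoinRoot.mk p r)) = r.eval₂ β (x a) := by
    intro r
    show ((stageEval x D T).toRingHom.comp (stepHom x D a ha hT)) (AdjoinRoot.mk p r) = _
    rw [stepHom, AdjoinRoot.mk]
    show (stageEval x D T).toRingHom (AdjoinRoot.lift _ _ _ (AdjoinRoot.mk p r)) = _
    rw [AdjoinRoot.lift_mk, Polynomial.hom_eval₂]
    congr 1
    · refine RingHom.ext fun w => ?_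
      show bigEval x D (toBig x D T (trans x D _ w)) = stageEval x D S w
      rw [toBig_trans]
      rfl
    · show stageEval x D T (Ideal.Quotient.mk _ _) = _
      rw [stageEval_mk, aeval_X]
  have hmk : AdjoinRoot.mk p q = AdjoinRoot.mk p (q %ₘ p) :=
    AdjoinRoot.mk_eq_mk.2 ⟨q /ₘ p, by
      nth_rw 1 [← Polynomial.modByMonic_add_div q p]; ring⟩
  rw [RingHom.mem_ker, hmk, hev] at hy
  rw [hmk]
  -- the reduced remainder vanishes
  set r := q %ₘ p with hrdef
  have hr0 : r.map β = 0 := by
    by_contra hne
    set e := (r.map β).natDegree with he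
    have hlt : e < (D a).f.natDegree := by
      have hpd : p.natDegree ≤ (D a).f.natDegree := Polynomial.natDegree_map_le
      by_cases hp1 : p = 1
      · exact absurd (by rw [hrdef, hp1, Polynomial.modByMonic_one, Polynomial.map_zero]) hne
      · exact lt_of_lt_of_le (lt_of_le_of_lt Polynomial.natDegree_map_le
          (Polynomial.natDegree_modByMonic_lt q hpm hp1)) hpd
    set c := (r.map β).leadingCoeff with hc
    have hc0 : c ≠ 0 := Polynomial.leadingCoeff_ne_zero.2 hne
    haveI := isMaximal_ker_stageEval x D S hk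
    have hu : ∃ u : StageRing x D S, β u * c = 1 := by
      have hcm : r.coeff e ∉ RingHom.ker (stageEval x D S) := fun h => hc0 (by
        rw [hc, Polynomial.leadingCoeff, Polynomial.coeff_map]
        exact h)
      obtain ⟨u, v, hv, huv⟩ := Ideal.IsMaximal.exists_inv ‹_› hcm
      refine ⟨u, ?_⟩
      have := congrArg β huv
      rw [map_add, map_mul, map_one, show β v = 0 from hv, add_zero] at this
      rw [hc, Polynomial.leadingCoeff, Polynomial.coeff_map]
      exact this
    obtain ⟨u, hu⟩ := hu
    let ev : MvPolynomial {j // j ∈ S.1} R →+* K := (aeval fun j : {j // j ∈ S.1} => x j).toRingHom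
    have hev' : ev = β.comp (Ideal.Quotient.mk _) := RingHom.ext fun w => (stageEval_mk x D S w).symm
    have hlifts : Polynomial.C (β u) * r.map β ∈ Polynomial.lifts ev := by
      rw [Polynomial.lifts_iff_coeff_lifts]
      intro k
      obtain ⟨w, hw⟩ := Ideal.Quotient.mk_surjective (u * r.coeff k)
      refine ⟨w, ?_⟩
      rw [hev', RingHom.comp_apply, hw, Polynomial.coeff_C_mul, Polynomial.coeff_map, map_mul]
    have hmon : (Polynomial.C (β u) * r.map β).Monic :=
      Polynomial.monic_C_mul_of_mul_leadingCoeff_eq_one hu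
    obtain ⟨q', hq'1, hq'2, hq'3⟩ := Polynomial.lifts_and_natDegree_eq_and_monic hlifts hmon
    have hle := hD a ⟨S.1, hmax, q', hq'3, ?_⟩
    · have hdeg : (Polynomial.C (β u) * r.map β).natDegree ≤ e := Polynomial.natDegree_C_mul_le _ _
      simp only at hle
      omega
    · show q'.eval₂ ev (x a) = 0
      rw [← Polynomial.eval_map, hq'1, Polynomial.eval_mul, Polynomial.eval_map, hy, mul_zero]
  have hcoeff : ∀ k, r.coeff k ∈ (maximalIdeal R).map (algebraMap R (StageRing x D S)) := by
    intro k
    rw [← hS.2, RingHom.mem_ker]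
    have := congrArg (Polynomial.coeff · k) hr0
    simpa [Polynomial.coeff_map, β] using this
  have : ∀ k, trans x D (step_sub x D a hT) (r.coeff k) ∈
      (maximalIdeal R).map (algebraMap R (StageRing x D T)) := by
    intro k
    have := Ideal.mem_map_of_mem (trans x D (step_sub x D a hT)).toRingHom (hcoeff k)
    rw [Ideal.map_map] at this
    rwa [AlgHom.toRingHom_eq_coe, AlgHom.comp_algebraMap] at this
  rw [r.as_sum_range_C_mul_X_pow, map_sum, map_sum]
  refine Ideal.sum_mem _ fun k _ => ?_
  rw [map_mul, map_mul, AdjoinRoot.mk_C, stepHom_of]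
  exact Ideal.mul_mem_right _ _ (this k)

theorem good : ∀ (n : ℕ) (S : Stage x D), S.1.card = n → Good x D S := by
  classical
  intro n
  induction n using Nat.strong_induction_on with
  | _ n ih =>
    intro S hn
    by_cases he : S.1 = ∅
    · have hsurj : Function.Surjective (algebraMap R (StageRing x D S)) := by
        haveI : IsEmpty {j // j ∈ S.1} := ⟨fun j => by simpa [he] using j.2⟩
        intro y
        obtain ⟨p, rfl⟩ := Ideal.Quotient.mk_surjective y
        exact ⟨MvPolynomial.isEmptyAlgEquiv R _ p, by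
          conv_rhs => rw [MvPolynomial.eq_C_of_isEmpty p]
          rw [IsScalarTower.algebraMap_apply R (MvPolynomial {j // j ∈ S.1} R) (StageRing x D S),
            MvPolynomial.algebraMap_eq]
          congr 2⟩
      refine ⟨Module.Finite.of_surjective (Algebra.linearMap R _) hsurj, le_antisymm ?_ ?_⟩
      · intro y hy
        obtain ⟨r, rfl⟩ := hsurj y
        refine Ideal.mem_map_of_mem _ ?_
        rw [← hk, RingHom.mem_ker, ← (stageEval x D S).commutes]
        exact hy
      · rw [Ideal.map_le_iff_le_comap]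
        intro r hr
        rw [Ideal.mem_comap, RingHom.mem_ker, AlgHom.commutes]
        rw [← hk] at hr
        exact hr
    · have hne : S.1.Nonempty := Finset.nonempty_iff_ne_empty.2 he
      set a := S.1.max' hne
      have hmax : ∀ j ∈ S.1.erase a, j < a := fun j hj =>
        lt_of_le_of_ne (Finset.le_max' _ j (Finset.mem_of_mem_erase hj)) (Finset.ne_of_mem_erase hj)
      let S' : Stage x D := ⟨S.1.erase a, fun i hi j hj => Finset.mem_erase.2
        ⟨(((D i).lt j hj).trans (hmax i hi)).ne, S.2 i (Finset.mem_of_mem_erase hi) hj⟩⟩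
      have hins : S.1 = insert a S'.1 := (Finset.insert_erase (S.1.max'_mem hne)).symm
      refine good_step x D hk hD a (Finset.notMem_erase a _) hins hmax (ih _ ?_ S' rfl)
      rw [← hn]
      exact Finset.card_erase_lt_of_mem (S.1.max'_mem hne)

theorem isLocalRing_stage (S : Stage x D) :
    ∃ _ : IsLocalRing (StageRing x D S),
      maximalIdeal (StageRing x D S) = (maximalIdeal R).map (algebraMap R (StageRing x D S)) := by
  obtain ⟨hfin, hker⟩ := good x D hk hD _ S rfl
  have hmax := isMaximal_ker_stageEval x D S hk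
  have huniq : ∀ M : Ideal (StageRing x D S), M.IsMaximal → M = RingHom.ker (stageEval x D S) := by
    intro M hM
    refine (hmax.eq_of_le hM.ne_top ?_).symm
    rw [hker, Ideal.map_le_iff_le_comap]
    haveI := Ideal.isMaximal_comap_of_isIntegral_of_isMaximal (R := R) M
    exact (IsLocalRing.eq_maximalIdeal this).ge
  haveI : IsLocalRing (StageRing x D S) :=
    IsLocalRing.of_unique_max_ideal ⟨_, hmax, huniq⟩
  exact ⟨inferInstance, (IsLocalRing.eq_maximalIdeal hmax).symm.trans hker⟩

variable [IsNoetherianRing R] [WellFoundedLT ι]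

/-- The big ring is a Noetherian local flat extension with residue ring the subfield generated
by the `x i`. -/
theorem bigRing_spec (hx : Function.Surjective (aeval x : MvPolynomial ι R →ₐ[R] K)) :
    IsNoetherianRing (BigRing x D) ∧ IsLocalRing (BigRing x D) ∧
      (algebraMap R (BigRing x D)).Flat ∧ Function.Surjective (bigEval x D) ∧
      RingHom.ker (bigEval x D) = (maximalIdeal R).map (algebraMap R (BigRing x D)) := by
  classical
  haveI : ∀ S : Stage x D, IsLocalRing (StageRing x D S) := fun S =>
    (isLocalRing_stage x D hk hD S).1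
  have hmS : ∀ S : Stage x D, maximalIdeal (StageRing x D S) =
      (maximalIdeal R).map (algebraMap R (StageRing x D S)) := fun S =>
    (isLocalRing_stage x D hk hD S).2
  let f : ∀ S T : Stage x D, S ≤ T → StageRing x D S →+* StageRing x D T :=
    fun S T h => (trans x D (show S.1 ⊆ T.1 from h)).toRingHom
  let g : ∀ S : Stage x D, StageRing x D S →+* BigRing x D := fun S => (toBig x D S).toRingHom
  haveI : DirectedSystem (fun S : Stage x D => StageRing x D S) fun S T h => f S T h :=
    ⟨fun S y => trans_refl x D S y, fun T S U h1 h2 y => trans_trans x D h1 h2 y⟩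
  haveI : IsDirected (Stage x D) (· ≤ ·) := ⟨fun S T =>
    ⟨⟨S.1 ∪ T.1, fun i hi => (Finset.mem_union.1 hi).elim
        (fun h => (S.2 i h).trans Finset.subset_union_left)
        (fun h => (T.2 i h).trans Finset.subset_union_right)⟩,
      Finset.subset_union_left, Finset.subset_union_right⟩⟩
  haveI : Nonempty (Stage x D) := ⟨⟨∅, fun i hi => by simp at hi⟩⟩
  have hg : ∀ S T (h : S ≤ T), (g T).comp (f S T h) = g S := fun S T h =>
    RingHom.ext fun y => toBig_trans x D h y
  have hlift : ∀ (S₀ : Stage x D) (p : MvPolynomial ι R), ∃ T, S₀ ≤ T ∧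
      ∃ q : MvPolynomial {j // j ∈ T.1} R, rename Subtype.val q = p := by
    intro S₀ p
    obtain ⟨s, q, rfl⟩ := exists_finset_rename p
    obtain ⟨T, hsT, hT⟩ := exists_closed_superset x D (S₀.1 ∪ s)
    refine ⟨⟨T, hT⟩, Finset.union_subset_left hsT, rename (incl (Finset.union_subset_right hsT)) q,
      ?_⟩
    rw [rename_rename]
    rfl
  have hsurj : ∀ b : BigRing x D, ∃ S y, g S y = b := by
    intro b
    obtain ⟨p, rfl⟩ := Ideal.Quotient.mk_surjective b
    obtain ⟨T, -, q, rfl⟩ := hlift (Classical.arbitrary _) p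
    exact ⟨T, Ideal.Quotient.mk _ q, rfl⟩
  have hspan : ∀ z ∈ Ideal.span (Set.range (rel x D)), ∃ T : Stage x D, ∀ U, T ≤ U →
      ∃ w ∈ Ideal.span (Set.range (relS x D U)), rename Subtype.val w = z := by
    intro z hz
    induction hz using Submodule.span_induction with
    | mem z hz =>
      obtain ⟨i, rfl⟩ := hz
      obtain ⟨T, hiT, hT⟩ := exists_closed_superset x D {i}
      refine ⟨⟨T, hT⟩, fun U hU => ?_⟩
      have hiU : i ∈ U.1 := hU (hiT (Finset.mem_singleton_self i))
      exact ⟨_, Ideal.subset_span ⟨⟨i, hiU⟩, rfl⟩, rename_val_relS x D U ⟨i, hiU⟩⟩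
    | zero => exact ⟨Classical.arbitrary _, fun U _ => ⟨0, Submodule.zero_mem _, map_zero _⟩⟩
    | add z z' _ _ hz hz' =>
      obtain ⟨T, hT⟩ := hz
      obtain ⟨T', hT'⟩ := hz'
      obtain ⟨V, hV, hV'⟩ := exists_ge_ge T T'
      refine ⟨V, fun U hU => ?_⟩
      obtain ⟨w, hw, rfl⟩ := hT U (hV.trans hU)
      obtain ⟨w', hw', rfl⟩ := hT' U (hV'.trans hU)
      exact ⟨w + w', add_mem hw hw', map_add _ _ _⟩
    | smul c z _ hz =>
      obtain ⟨T, hT⟩ := hz
      obtain ⟨V, hV, q, rfl⟩ := hlift T c
      refine ⟨V, fun U hU => ?_⟩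
      obtain ⟨w, hw, rfl⟩ := hT U (hV.trans hU)
      refine ⟨rename (incl (show V.1 ⊆ U.1 from hU)) q * w, Ideal.mul_mem_left _ _ hw, ?_⟩
      rw [map_mul, rename_rename, smul_eq_mul]
      rfl
  have hker : ∀ S y, g S y = 0 → ∃ T, ∃ h : S ≤ T, f S T h y = 0 := by
    intro S y hy
    obtain ⟨p, rfl⟩ := Ideal.Quotient.mk_surjective y
    obtain ⟨T, hT⟩ := hspan _ (Ideal.Quotient.eq_zero_iff_mem.1 hy)
    obtain ⟨U, hSU, hTU⟩ := exists_ge_ge S T
    refine ⟨U, hSU, ?_⟩
    obtain ⟨w, hw, hwe⟩ := hT U hTU
    refine Ideal.Quotient.eq_zero_iff_mem.2 ?_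
    convert hw using 1
    refine rename_injective _ Subtype.val_injective ?_
    rw [hwe]
    exact (rename_rename _ _ p).trans rfl
  have hmax : ∀ S T (h : S ≤ T), (maximalIdeal (StageRing x D S)).map (f S T h) =
      maximalIdeal (StageRing x D T) := by
    intro S T h
    rw [hmS, hmS, Ideal.map_map]
    exact congrArg (fun φ => Ideal.map φ _) (trans x D (show S.1 ⊆ T.1 from h)).comp_algebraMap
  have hloc : ∀ S T (h : S ≤ T), IsLocalHom (f S T h) := fun S T h =>
    ((IsLocalRing.local_hom_TFAE _).out 0 2).2 (hmax S T h).le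
  have hflat : ∀ S T (h : S ≤ T), (f S T h).Flat := fun S T h => flat_trans x D _ h rfl
  haveI hloB : IsLocalRing (BigRing x D) := isLocalRing_union _ f g hg hsurj hker hloc
  haveI : ∀ S : Stage x D, IsNoetherianRing (StageRing x D S) := fun S => inferInstance
  have hev : Function.Surjective (bigEval x D) := fun c => by
    obtain ⟨p, rfl⟩ := hx c
    exact ⟨Ideal.Quotient.mk _ p, rfl⟩
  let S₀ : Stage x D := ⟨∅, fun i hi => by simp at hi⟩
  have hmB : (maximalIdeal R).map (algebraMap R (BigRing x D)) = maximalIdeal (BigRing x D) := by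
    rw [← map_maximalIdeal_g _ f g hg hsurj hker hloc hmax S₀, hmS, Ideal.map_map]
    exact congrArg (fun φ => Ideal.map φ _) (AlgHom.comp_algebraMap (toBig x D S₀)).symm
  refine ⟨isNoetherianRing_union _ f g hg hsurj hker hloc hmax hflat, hloB, ?_, hev, ?_⟩
  · have h0 : (algebraMap R (StageRing x D S₀)).Flat := by
      haveI : IsEmpty {j // j ∈ S₀.1} := ⟨fun j => (Finset.notMem_empty (j : ι) j.2)⟩
      have hbot : Ideal.span (Set.range (relS x D S₀)) = ⊥ := by simp
      have : Function.Bijective (algebraMap R (StageRing x D S₀)) := by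
        have e : algebraMap R (StageRing x D S₀) = ((RingEquiv.quotientBot _).symm.trans
            (Ideal.quotEquivOfEq hbot.symm)).toRingHom.comp
            (MvPolynomial.isEmptyAlgEquiv R {j // j ∈ S₀.1}).symm.toRingEquiv.toRingHom := by
          refine RingHom.ext fun r => ?_
          simp
          rfl
        rw [e]
        exact ((RingEquiv.quotientBot _).symm.trans
            (Ideal.quotEquivOfEq hbot.symm)).bijective.comp
              (MvPolynomial.isEmptyAlgEquiv R _).symm.bijective
      exact RingHom.Flat.of_bijective this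
    rw [← AlgHom.comp_algebraMap (toBig x D S₀)]
    exact RingHom.Flat.comp h0 (flat_g _ f g hg hsurj hker hflat S₀)
  · rw [hmB]
    exact IsLocalRing.eq_maximalIdeal (RingHom.ker_isMaximal_of_surjective _ hev)

end GrothLib.Gonflement
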