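import Groth.Agent.Lib.Gonflement.Main

/-!
# Flat local extensions with prescribed residue field, without Noetherian hypotheses
-/

universe u

noncomputable section

namespace GrothLib.Gonflement

open IsLocalRing MvPolynomial

section

variable {R : Type u} [CommRing R] {K : Type u} [Field K] [Algebra R K]
variable {ι : Type u} [LinearOrder ι] (x : ι → K)
variable (D : ∀ i, Datum (R := R) x i) [IsLocalRing R] [WellFoundedLT ι]
variable (hk : RingHom.ker (algebraMap R K) = maximalIdeal R)
variable (hD : ∀ i, ∀ D' : Datum (R := R) x i, (D i).f.natDegree ≤ D'.f.natDegree)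

include hk hD

/-- Non-Noetherian form: the big ring is a local flat extension with residue ring the subfield generated
by the `x i`. -/
theorem bigRing_spec_general (hx : Function.Surjective (aeval x : MvPolynomial ι R →ₐ[R] K)) :
    IsLocalRing (BigRing x D) ∧
      (algebraMap R (BigRing x D)).Flat ∧ Function.Surjective (bigEval x D) ∧
      RingHom.ker (bigEval x D) = (maximalIdeal R).map (algebraMap R (BigRing x D)) := by
  classical
  haveI : ∀ S : Stage x D, IsLocalRing (StageRing x D S) := fun S =>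
    (isLocalRing_stage x D hk hD S).1
  have hmS : ∀ S : Stage x D, maximalIdeal (StageRing x D S) =
      (maximalIdeal R).map (algebraMap R (StageRing x D S)) := fun S =>
    (isLocalRing_stage x D hk hD S).2
  let f : ∀ S T : Stage x D, S ≤ T → StageRing x D S →+* StageRing x D T :=
    fun S T h => (trans x D (show S.1 ⊆ T.1 from h)).toRingHom
  let g : ∀ S : Stage x D, StageRing x D S →+* BigRing x D := fun S => (toBig x D S).toRingHom
  haveI : DirectedSystem (fun S : Stage x D => StageRing x D S) fun S T h => f S T h :=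
    ⟨fun S y => trans_refl x D S y, fun T S U h1 h2 y => trans_trans x D h1 h2 y⟩
  haveI : IsDirected (Stage x D) (· ≤ ·) := ⟨fun S T =>
    ⟨⟨S.1 ∪ T.1, fun i hi => (Finset.mem_union.1 hi).elim
        (fun h => (S.2 i h).trans Finset.subset_union_left)
        (fun h => (T.2 i h).trans Finset.subset_union_right)⟩,
      Finset.subset_union_left, Finset.subset_union_right⟩⟩
  haveI : Nonempty (Stage x D) := ⟨⟨∅, fun i hi => by simp at hi⟩⟩
  have hg : ∀ S T (h : S ≤ T), (g T).comp (f S T h) = g S := fun S T h =>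
    RingHom.ext fun y => toBig_trans x D h y
  have hlift : ∀ (S₀ : Stage x D) (p : MvPolynomial ι R), ∃ T, S₀ ≤ T ∧
      ∃ q : MvPolynomial {j // j ∈ T.1} R, rename Subtype.val q = p := by
    intro S₀ p
    obtain ⟨s, q, rfl⟩ := exists_finset_rename p
    obtain ⟨T, hsT, hT⟩ := exists_closed_superset x D (S₀.1 ∪ s)
    refine ⟨⟨T, hT⟩, Finset.union_subset_left hsT, rename (incl (Finset.union_subset_right hsT)) q,
      ?_⟩
    rw [rename_rename]
    rfl
  have hsurj : ∀ b : BigRing x D, ∃ S y, g S y = b := by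
    intro b
    obtain ⟨p, rfl⟩ := Ideal.Quotient.mk_surjective b
    obtain ⟨T, -, q, rfl⟩ := hlift (Classical.arbitrary _) p
    exact ⟨T, Ideal.Quotient.mk _ q, rfl⟩
  have hspan : ∀ z ∈ Ideal.span (Set.range (rel x D)), ∃ T : Stage x D, ∀ U, T ≤ U →
      ∃ w ∈ Ideal.span (Set.range (relS x D U)), rename Subtype.val w = z := by
    intro z hz
    induction hz using Submodule.span_induction with
    | mem z hz =>
      obtain ⟨i, rfl⟩ := hz
      obtain ⟨T, hiT, hT⟩ := exists_closed_superset x D {i}
      refine ⟨⟨T, hT⟩, fun U hU => ?_⟩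
      have hiU : i ∈ U.1 := hU (hiT (Finset.mem_singleton_self i))
      exact ⟨_, Ideal.subset_span ⟨⟨i, hiU⟩, rfl⟩, rename_val_relS x D U ⟨i, hiU⟩⟩
    | zero => exact ⟨Classical.arbitrary _, fun U _ => ⟨0, Submodule.zero_mem _, map_zero _⟩⟩
    | add z z' _ _ hz hz' =>
      obtain ⟨T, hT⟩ := hz
      obtain ⟨T', hT'⟩ := hz'
      obtain ⟨V, hV, hV'⟩ := exists_ge_ge T T'
      refine ⟨V, fun U hU => ?_⟩
      obtain ⟨w, hw, rfl⟩ := hT U (hV.trans hU)
      obtain ⟨w', hw', rfl⟩ := hT' U (hV'.trans hU)
      exact ⟨w + w', add_mem hw hw', map_add _ _ _⟩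
    | smul c z _ hz =>
      obtain ⟨T, hT⟩ := hz
      obtain ⟨V, hV, q, rfl⟩ := hlift T c
      refine ⟨V, fun U hU => ?_⟩
      obtain ⟨w, hw, rfl⟩ := hT U (hV.trans hU)
      refine ⟨rename (incl (show V.1 ⊆ U.1 from hU)) q * w, Ideal.mul_mem_left _ _ hw, ?_⟩
      rw [map_mul, rename_rename, smul_eq_mul]
      rfl
  have hker : ∀ S y, g S y = 0 → ∃ T, ∃ h : S ≤ T, f S T h y = 0 := by
    intro S y hy
    obtain ⟨p, rfl⟩ := Ideal.Quotient.mk_surjective y
    obtain ⟨T, hT⟩ := hspan _ (Ideal.Quotient.eq_zero_iff_mem.1 hy)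
    obtain ⟨U, hSU, hTU⟩ := exists_ge_ge S T
    refine ⟨U, hSU, ?_⟩
    obtain ⟨w, hw, hwe⟩ := hT U hTU
    refine Ideal.Quotient.eq_zero_iff_mem.2 ?_
    convert hw using 1
    refine rename_injective _ Subtype.val_injective ?_
    rw [hwe]
    exact (rename_rename _ _ p).trans rfl
  have hmax : ∀ S T (h : S ≤ T), (maximalIdeal (StageRing x D S)).map (f S T h) =
      maximalIdeal (StageRing x D T) := by
    intro S T h
    rw [hmS, hmS, Ideal.map_map]
    exact congrArg (fun φ => Ideal.map φ _) (trans x D (show S.1 ⊆ T.1 from h)).comp_algebraMap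
  have hloc : ∀ S T (h : S ≤ T), IsLocalHom (f S T h) := fun S T h =>
    ((IsLocalRing.local_hom_TFAE _).out 0 2).2 (hmax S T h).le
  have hflat : ∀ S T (h : S ≤ T), (f S T h).Flat := fun S T h => flat_trans x D _ h rfl
  haveI hloB : IsLocalRing (BigRing x D) := isLocalRing_union _ f g hg hsurj hker hloc
  have hev : Function.Surjective (bigEval x D) := fun c => by
    obtain ⟨p, rfl⟩ := hx c
    exact ⟨Ideal.Quotient.mk _ p, rfl⟩
  let S₀ : Stage x D := ⟨∅, fun i hi => by simp at hi⟩
  have hmB : (maximalIdeal R).map (algebraMap R (BigRing x D)) = maximalIdeal (BigRing x D) := by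
    rw [← map_maximalIdeal_g _ f g hg hsurj hker hloc hmax S₀, hmS, Ideal.map_map]
    exact congrArg (fun φ => Ideal.map φ _) (AlgHom.comp_algebraMap (toBig x D S₀)).symm
  refine ⟨hloB, ?_, hev, ?_⟩
  · have h0 : (algebraMap R (StageRing x D S₀)).Flat := by
      haveI : IsEmpty {j // j ∈ S₀.1} := ⟨fun j => (Finset.notMem_empty (j : ι) j.2)⟩
      have hbot : Ideal.span (Set.range (relS x D S₀)) = ⊥ := by simp
      have : Function.Bijective (algebraMap R (StageRing x D S₀)) := by
        have e : algebraMap R (StageRing x D S₀) = ((RingEquiv.quotientBot _).symm.trans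
            (Ideal.quotEquivOfEq hbot.symm)).toRingHom.comp
            (MvPolynomial.isEmptyAlgEquiv R {j // j ∈ S₀.1}).symm.toRingEquiv.toRingHom := by
          refine RingHom.ext fun r => ?_
          simp
          rfl
        rw [e]
        exact ((RingEquiv.quotientBot _).symm.trans
            (Ideal.quotEquivOfEq hbot.symm)).bijective.comp
              (MvPolynomial.isEmptyAlgEquiv R _).symm.bijective
      exact RingHom.Flat.of_bijective this
    rw [← AlgHom.comp_algebraMap (toBig x D S₀)]
    exact RingHom.Flat.comp h0 (flat_g _ f g hg hsurj hker hflat S₀)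
  · rw [hmB]
    exact IsLocalRing.eq_maximalIdeal (RingHom.ker_isMaximal_of_surjective _ hev)


end

section

variable {R : Type u} [CommRing R] [IsLocalRing R]
variable {K : Type u} [Field K] [Algebra R K]

theorem exists_flat_local_of_integral_general {ι : Type u} [LinearOrder ι] [WellFoundedLT ι] (x : ι → K)
    (hk : RingHom.ker (algebraMap R K) = maximalIdeal R) (hx : ∀ i, IsIntegral R (x i))
    (hgen : Function.Surjective (MvPolynomial.aeval x : MvPolynomial ι R →ₐ[R] K)) :
    ∃ (B : Type u) (_ : CommRing B) (φ : R →+* B) (ψ : B →+* K), 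
      IsLocalRing B ∧ φ.Flat ∧ Function.Surjective ψ ∧
      RingHom.ker ψ = (maximalIdeal R).map φ ∧ ψ.comp φ = algebraMap R K ∧
      (Finite ι → φ.Finite) := by
  classical
  choose D hD using fun i => exists_min_datum (R := R) x i (hx i)
  obtain ⟨hL, hF, hS, hK⟩ := bigRing_spec_general x D hk hD hgen
  refine ⟨BigRing x D, inferInstance, algebraMap R _, (bigEval x D).toRingHom, hL, hF, hS, hK,
    (bigEval x D).comp_algebraMap, fun hfin => ?_⟩
  haveI := Fintype.ofFinite ι
  let S : Stage x D := ⟨Finset.univ, fun i _ => Finset.subset_univ _⟩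
  have hsurj : Function.Surjective (toBig x D S) := by
    intro b
    obtain ⟨p, rfl⟩ := Ideal.Quotient.mk_surjective b
    refine ⟨Ideal.Quotient.mk _ (MvPolynomial.rename (fun i => ⟨i, Finset.mem_univ i⟩) p), ?_⟩
    show Ideal.Quotient.mk _ (MvPolynomial.rename Subtype.val (MvPolynomial.rename _ p)) = _
    rw [MvPolynomial.rename_rename]
    exact congrArg _ (MvPolynomial.rename_id_apply p)
  haveI := (good x D hk hD _ S rfl).1
  rw [RingHom.finite_algebraMap]
  exact Module.Finite.of_surjective (toBig x D S).toLinearMap hsurj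

theorem exists_flat_local_general (K : Type u) [Field K] [Algebra (ResidueField R) K] :
    ∃ (B : Type u) (_ : CommRing B) (φ : R →+* B) (ψ : B →+* K), 
      IsLocalRing B ∧ φ.Flat ∧ Function.Surjective ψ ∧
      RingHom.ker ψ = (maximalIdeal R).map φ ∧
      ψ.comp φ = (algebraMap (ResidueField R) K).comp (residue R) := by
  classical
  obtain ⟨T, hT⟩ := exists_isTranscendenceBasis (ResidueField R) K
  obtain ⟨φ₁, hker, hφ, hX⟩ := exists_genRing_hom R ↥T ((↑) : T → K) hT.1
  letI : Algebra (GenRing R ↥T) K := φ₁.toAlgebra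
  haveI hL : Algebra.IsAlgebraic
      (IntermediateField.adjoin (ResidueField R) (Set.range ((↑) : T → K))) K :=
    hT.isAlgebraic_field
  haveI : (RingHom.ker φ₁).IsMaximal := hker ▸ maximalIdeal.isMaximal _
  have hrange : IsField φ₁.range :=
    MulEquiv.isField ((Ideal.Quotient.maximal_ideal_iff_isField_quotient _).1 ‹_›)
      (RingHom.quotientKerEquivRange φ₁).toMulEquiv.symm
  have hinv : ∀ z : K, z ∈ φ₁.range → z⁻¹ ∈ φ₁.range := by
    intro z hz
    by_cases h0 : z = 0
    · subst h0; rw [inv_zero]; exact zero_mem _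
    · obtain ⟨w, hw⟩ := hrange.mul_inv_cancel
        (show (⟨z, hz⟩ : φ₁.range) ≠ 0 from fun h => h0 (congrArg Subtype.val h))
      rw [inv_eq_of_mul_eq_one_right (congrArg Subtype.val hw)]
      exact w.2
  let F : IntermediateField (ResidueField R) K :=
    { carrier := φ₁.range
      mul_mem' := mul_mem
      one_mem' := one_mem _
      add_mem' := add_mem
      zero_mem' := zero_mem _
      algebraMap_mem' := fun c => by
        obtain ⟨a, rfl⟩ := residue_surjective c
        exact ⟨algebraMap R _ a, hφ a⟩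
      inv_mem' := hinv }
  have hle : IntermediateField.adjoin (ResidueField R) (Set.range ((↑) : T → K)) ≤ F :=
    IntermediateField.adjoin_le_iff.2 (by rintro _ ⟨t, rfl⟩; exact ⟨_, hX t⟩)
  have hint : ∀ y : K, IsIntegral (GenRing R ↥T) y := by
    intro y
    obtain ⟨p, hp, hp0⟩ := (hL.isAlgebraic y).isIntegral
    have hlift : p.map (algebraMap _ K) ∈ Polynomial.lifts φ₁ := by
      rw [Polynomial.lifts_iff_coeff_lifts]
      intro n
      rw [Polynomial.coeff_map]
      exact hle (p.coeff n).2
    obtain ⟨q, hq1, -, hq3⟩ := Polynomial.lifts_and_natDegree_eq_and_monic hlift (hp.map _)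
    refine ⟨q, hq3, ?_⟩
    show Polynomial.eval₂ φ₁ y q = 0
    rw [← Polynomial.eval_map, hq1, Polynomial.eval_map]
    exact hp0
  letI : LinearOrder K := linearOrderOfSTO WellOrderingRel
  haveI : WellFoundedLT K := ⟨(IsWellFounded.wf : WellFounded (WellOrderingRel : K → K → Prop))⟩
  obtain ⟨B, _, φ₂, ψ, hLo, hF, hS, hK, hcomp, -⟩ :=
    exists_flat_local_of_integral_general (R := GenRing R ↥T) (id : K → K) hker hint
      (fun c => ⟨MvPolynomial.X c, by simp⟩)
  refine ⟨B, inferInstance, φ₂.comp (algebraMap R _), ψ, hLo,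
    RingHom.Flat.comp (algebraMap_genRing_flat R ↥T) hF, hS, ?_, ?_⟩
  · rw [hK, ← Ideal.map_map, maximalIdeal_genRing]
  · rw [← RingHom.comp_assoc, hcomp]
    exact RingHom.ext hφ


end

end GrothLib.Gonflement
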