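import Groth.Agent.Lib.AdicExtra.Completion
import Mathlib.RingTheory.Flat.EquationalCriterion
import Mathlib.RingTheory.Flat.FaithfullyFlat.Algebra
import Mathlib.RingTheory.Filtration
import Mathlib.RingTheory.RingHom.Flat

/-!
# Unions of Noetherian local rings along flat local maps generating the maximal ideal

The union is Noetherian and flat over every stage (EGA 0_III 10.3.1.3).
-/

universe u

noncomputable section

namespace GrothLib.Gonflement

open IsLocalRing

/-- Flatness over `R` if every relation lifts to a flat module. -/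
theorem flat_of_forall_relation {R : Type u} [CommRing R] {M : Type u} [AddCommGroup M] [Module R M]
    (h : ∀ (n : ℕ) (r : Fin n → R) (x : Fin n → M), ∑ i, r i • x i = 0 →
      ∃ (N : Type u) (_ : AddCommGroup N) (_ : Module R N) (l : N →ₗ[R] M) (y : Fin n → N),
        Module.Flat R N ∧ (∀ i, l (y i) = x i) ∧ ∑ i, r i • y i = 0) :
    Module.Flat R M := by
  rw [Module.Flat.iff_forall_isTrivialRelation]
  intro n r x hx
  obtain ⟨N, _, _, l, y, hN, hy, h0⟩ := h n r x hx
  obtain ⟨k, a, z, h1, h2⟩ := Module.Flat.iff_forall_isTrivialRelation.1 hN h0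
  exact ⟨k, a, fun j => l (z j), fun i => by simp [← hy i, h1 i, map_sum], h2⟩

/-- A local ring is Noetherian when every finite subset lies in a Noetherian local ring over
which it is flat and whose maximal ideal generates its own. -/
theorem isNoetherianRing_of_stages {B : Type u} [CommRing B] [IsLocalRing B]
    (h : ∀ s : Finset B, ∃ (A : Type u) (_ : CommRing A) (_ : IsNoetherianRing A)
      (_ : IsLocalRing A) (g : A →+* B), IsLocalHom g ∧ g.Flat ∧
        (maximalIdeal A).map g = maximalIdeal B ∧ (s : Set B) ⊆ Set.range g) :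
    IsNoetherianRing B := by
  classical
  have hm : (maximalIdeal B).FG := by
    obtain ⟨A, _, _, _, g, _, _, he, _⟩ := h ∅
    rw [← he]
    exact Ideal.FG.map (IsNoetherian.noetherian (maximalIdeal A)) g
  -- finitely generated ideals are closed
  have closed : ∀ (s : Finset B) (x : B),
      (∀ n : ℕ, x ∈ Ideal.span (s : Set B) ⊔ maximalIdeal B ^ n) →
        x ∈ Ideal.span (s : Set B) := by
    intro s x hx
    obtain ⟨A, _, _, _, g, hloc, hflat, he, hs⟩ := h (insert x s)
    algebraize [g]
    haveI : IsLocalHom (algebraMap A B) := hloc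
    haveI : Module.Flat A B := hflat
    haveI : Module.FaithfullyFlat A B := Module.FaithfullyFlat.of_flat_of_isLocalHom
    rw [Finset.coe_insert, Set.insert_subset_iff] at hs
    obtain ⟨⟨a, rfl⟩, hs⟩ := hs
    set I : Ideal A := Ideal.span (g ⁻¹' (s : Set B)) with hI
    have hIs : I.map g = Ideal.span (s : Set B) := by
      rw [hI, Ideal.map_span, Set.image_preimage_eq_inter_range, Set.inter_eq_left.2 hs]
    have key : ∀ n : ℕ, a ∈ I ⊔ maximalIdeal A ^ n := by
      intro n
      rw [← Ideal.comap_map_eq_self_of_faithfullyFlat (B := B) (I ⊔ maximalIdeal A ^ n),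
        Ideal.mem_comap]
      show g a ∈ Ideal.map g (I ⊔ maximalIdeal A ^ n)
      rw [Ideal.map_sup, Ideal.map_pow, hIs, he]
      exact hx n
    have : a ∈ I := by
      by_cases hItop : I = ⊤
      · rw [hItop]; trivial
      haveI : Nontrivial (A ⧸ I) := Ideal.Quotient.nontrivial_iff.2 hItop
      have hmem : Ideal.Quotient.mk I a ∈
          (⨅ n : ℕ, maximalIdeal A ^ n • ⊤ : Submodule A (A ⧸ I)) := by
        rw [Submodule.mem_iInf]
        intro n
        obtain ⟨u, hu, v, hv, rfl⟩ := Submodule.mem_sup.1 (key n)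
        rw [map_add, Ideal.Quotient.eq_zero_iff_mem.2 hu, zero_add]
        have : Ideal.Quotient.mk I v = v • (1 : A ⧸ I) := by
          rw [Algebra.smul_def, mul_one]; rfl
        rw [this]
        exact Submodule.smul_mem_smul hv trivial
      rw [Ideal.iInf_pow_smul_eq_bot_of_isLocalRing _ (maximalIdeal.isMaximal A).ne_top,
        Submodule.mem_bot, Ideal.Quotient.eq_zero_iff_mem] at hmem
      exact hmem
    exact hIs ▸ Ideal.mem_map_of_mem g this
  -- pass to the completion
  set C := AdicCompletion (maximalIdeal B) B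
  haveI : IsNoetherianRing C :=
    letI := Ideal.Quotient.field (maximalIdeal B)
    GrothLib.AdicExtra.isNoetherianRing_adicCompletion_of_fg (maximalIdeal B) hm
  let ι : B →+* C := algebraMap B C
  have hcl : ∀ (s : Finset B) (x : B), ι x ∈ (Ideal.span (s : Set B)).map ι →
      x ∈ Ideal.span (s : Set B) := by
    refine fun s x hx => closed s x fun n => ?_
    have h1 : (AdicCompletion.evalₐ (maximalIdeal B) n) (ι x) ∈
        ((Ideal.span (s : Set B)).map ι).map
          (AdicCompletion.evalₐ (maximalIdeal B) n).toRingHom :=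
      Ideal.mem_map_of_mem _ hx
    have hcomp : (AdicCompletion.evalₐ (maximalIdeal B) n).toRingHom.comp ι =
        Ideal.Quotient.mk (maximalIdeal B ^ n) :=
      RingHom.ext fun y => (AdicCompletion.evalₐ (maximalIdeal B) n).commutes y
    rw [Ideal.map_map, hcomp] at h1
    have h2 : (AdicCompletion.evalₐ (maximalIdeal B) n) (ι x) = Ideal.Quotient.mk _ x :=
      (AdicCompletion.evalₐ (maximalIdeal B) n).commutes x
    rw [h2, ← Ideal.mem_comap, Ideal.comap_map_of_surjective _ Ideal.Quotient.mk_surjective] at h1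
    simpa [← RingHom.ker_eq_comap_bot] using h1
  rw [isNoetherianRing_iff_ideal_fg]
  intro J
  obtain ⟨m, ⟨s, hsJ, rfl⟩, hmax⟩ := set_has_maximal_iff_noetherian.2
    (inferInstance : IsNoetherian C C)
    {L : Ideal C | ∃ s : Finset B, (s : Set B) ⊆ (J : Set B) ∧
      (Ideal.span (s : Set B)).map ι = L}
    ⟨_, ∅, by simp, rfl⟩
  refine ⟨s, le_antisymm (Ideal.span_le.2 hsJ) fun x hx => ?_⟩
  refine hcl s x ?_
  by_contra hne
  refine hmax _ ⟨insert x s, by simp [Set.insert_subset_iff, hsJ, hx], rfl⟩ ?_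
  refine lt_of_le_of_ne (Ideal.map_mono (Ideal.span_mono (by simp))) fun e => hne ?_
  rw [e]
  exact Ideal.mem_map_of_mem ι (Ideal.subset_span (by simp))

section system

variable {ι : Type*} [Preorder ι] [Nonempty ι] [IsDirected ι (· ≤ ·)]
variable (G : ι → Type u) [∀ i, CommRing (G i)] [∀ i, IsLocalRing (G i)]
variable (f : ∀ i j, i ≤ j → G i →+* G j)
variable {B : Type u} [CommRing B] (g : ∀ i, G i →+* B)

section

variable (hg : ∀ i j (h : i ≤ j), (g j).comp (f i j h) = g i)
  (hsurj : ∀ b : B, ∃ i x, g i x = b)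

include hg hsurj

omit [∀ i, IsLocalRing (G i)] in
theorem exists_stage_finset (i₀ : ι) (s : Finset B) :
    ∃ i, i₀ ≤ i ∧ (s : Set B) ⊆ Set.range (g i) := by
  classical
  induction s using Finset.induction_on with
  | empty => exact ⟨i₀, le_rfl, by simp⟩
  | insert b s _ ih =>
    obtain ⟨i, hi₀, hi⟩ := ih
    obtain ⟨j, x, rfl⟩ := hsurj b
    obtain ⟨k, hik, hjk⟩ := exists_ge_ge i j
    refine ⟨k, hi₀.trans hik, ?_⟩
    rw [Finset.coe_insert, Set.insert_subset_iff]
    refine ⟨⟨f j k hjk x, RingHom.congr_fun (hg j k hjk) x⟩, fun y hy => ?_⟩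
    obtain ⟨z, rfl⟩ := hi hy
    exact ⟨f i k hik z, RingHom.congr_fun (hg i k hik) z⟩

variable (hker : ∀ i x, g i x = 0 → ∃ j, ∃ h : i ≤ j, f i j h x = 0)

include hker

omit [∀ i, IsLocalRing (G i)] hsurj in
theorem exists_eq {i : ι} {x y : G i} (h : g i x = g i y) :
    ∃ j, ∃ h : i ≤ j, f i j h x = f i j h y := by
  obtain ⟨j, hij, hj⟩ := hker i (x - y) (by rw [map_sub, h, sub_self])
  exact ⟨j, hij, sub_eq_zero.1 ((map_sub _ _ _).symm.trans hj)⟩

variable [DirectedSystem G fun i j h => f i j h]
variable (hloc : ∀ i j (h : i ≤ j), IsLocalHom (f i j h))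

include hloc

theorem isLocalHom_g (i : ι) : IsLocalHom (g i) := by
  classical
  refine ⟨fun x hx => ?_⟩
  obtain ⟨v, hv⟩ := hx.exists_right_inv
  obtain ⟨j, hij, hj⟩ := exists_stage_finset G f g hg hsurj i {v}
  obtain ⟨w, rfl⟩ := hj (by simp : v ∈ (({v} : Finset B) : Set B))
  have h1 : g j (f i j hij x * w) = g j 1 := by
    rw [map_mul, map_one, ← RingHom.comp_apply, hg]
    exact hv
  obtain ⟨k, hjk, hk⟩ := exists_eq G f g hg hker h1
  rw [map_mul, map_one] at hk
  exact (hloc i j hij).map_nonunit x ((hloc j k hjk).map_nonunit _ (IsUnit.of_mul_eq_one _ hk))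

theorem nontrivial_union : Nontrivial B := by
  refine ⟨⟨0, 1, fun h => ?_⟩⟩
  obtain ⟨i⟩ := ‹Nonempty ι›
  exact not_isUnit_zero ((isLocalHom_g G f g hg hsurj hker hloc i).map_nonunit 0
    (by rw [map_zero, h]; exact isUnit_one))

theorem isLocalRing_union : IsLocalRing B := by
  classical
  haveI : Nontrivial B := nontrivial_union G f g hg hsurj hker hloc
  refine IsLocalRing.of_nonunits_add fun a b ha hb => ?_
  obtain ⟨i, -, hi⟩ := exists_stage_finset G f g hg hsurj (Classical.arbitrary ι) {a, b}
  obtain ⟨x, rfl⟩ := hi (by simp : a ∈ (({a, b} : Finset B) : Set B))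
  obtain ⟨y, rfl⟩ := hi (by simp : b ∈ (({g i x, b} : Finset B) : Set B))
  intro h
  rw [← map_add] at h
  have := (isLocalHom_g G f g hg hsurj hker hloc i).map_nonunit _ h
  rcases IsLocalRing.isUnit_or_isUnit_of_isUnit_add this with h' | h'
  · exact ha (h'.map (g i))
  · exact hb (h'.map (g i))

variable (hmax : ∀ i j (h : i ≤ j), (maximalIdeal (G i)).map (f i j h) = maximalIdeal (G j))

include hmax

theorem map_maximalIdeal_g [IsLocalRing B] (i : ι) :
    (maximalIdeal (G i)).map (g i) = maximalIdeal B := by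
  classical
  refine le_antisymm ?_ fun b hb => ?_
  · rw [Ideal.map_le_iff_le_comap]
    intro x hx hu
    exact hx ((isLocalHom_g G f g hg hsurj hker hloc i).map_nonunit x hu)
  · obtain ⟨j, hij, hj⟩ := exists_stage_finset G f g hg hsurj i {b}
    obtain ⟨x, rfl⟩ := hj (by simp : b ∈ (({b} : Finset B) : Set B))
    have hx : x ∈ maximalIdeal (G j) := fun hu => hb (hu.map (g j))
    rw [← hmax i j hij] at hx
    have := Ideal.mem_map_of_mem (g j) hx
    rwa [Ideal.map_map, hg] at this

variable (hflat : ∀ i j (h : i ≤ j), (f i j h).Flat)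

include hflat

omit hloc hmax in
theorem flat_g (i : ι) : (g i).Flat := by
  classical
  letI := (g i).toAlgebra
  show Module.Flat (G i) B
  refine flat_of_forall_relation fun n r x hx => ?_
  obtain ⟨j, hij, hj⟩ := exists_stage_finset G f g hg hsurj i (Finset.univ.image x)
  have hy : ∀ l, ∃ y, g j y = x l := fun l => hj (by simp)
  choose y hy using hy
  obtain ⟨k, hjk, hk⟩ := hker j (∑ l, f i j hij (r l) * y l) (by
    rw [map_sum, ← hx]
    refine Finset.sum_congr rfl fun l _ => ?_
    rw [map_mul, hy, ← RingHom.comp_apply, hg]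
    rfl)
  letI := (f i k (hij.trans hjk)).toAlgebra
  refine ⟨G k, inferInstance, inferInstance,
    (AlgHom.mk (g k) fun r => RingHom.congr_fun (hg i k _) r :
      G k →ₐ[G i] B).toLinearMap, fun l => f j k hjk (y l), hflat i k _, fun l => ?_, ?_⟩
  · exact (RingHom.congr_fun (hg j k hjk) (y l)).trans (hy l)
  · rw [← hk, map_sum]
    refine Finset.sum_congr rfl fun l _ => ?_
    rw [map_mul, DirectedSystem.map_map (f := fun a b h => f a b h) hij hjk (r l)]
    rfl

theorem isNoetherianRing_union [∀ i, IsNoetherianRing (G i)] : IsNoetherianRing B := by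
  haveI := isLocalRing_union G f g hg hsurj hker hloc
  refine isNoetherianRing_of_stages fun s => ?_
  obtain ⟨i, -, hi⟩ := exists_stage_finset G f g hg hsurj (Classical.arbitrary ι) s
  exact ⟨G i, inferInstance, inferInstance, inferInstance, g i,
    isLocalHom_g G f g hg hsurj hker hloc i, flat_g G f g hg hsurj hker hflat i,
    map_maximalIdeal_g G f g hg hsurj hker hloc hmax i, hi⟩

end

end system

end GrothLib.Gonflement
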