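import Groth.Agent.Lib.Gonflement.Limit
import Mathlib.RingTheory.MvPolynomial.Basic
import Mathlib.RingTheory.Polynomial.Basic
import Mathlib.Algebra.MvPolynomial.Equiv
import Mathlib.RingTheory.Localization.AtPrime.Basic
import Mathlib.RingTheory.AlgebraicIndependent.Defs

/-!
# `A[T]` localised at `𝔪 A[T]` for an arbitrary set of variables `T`
-/

universe u

noncomputable section

namespace GrothLib.Gonflement

open IsLocalRing MvPolynomial

theorem rename_flat {σ τ : Type u} {R : Type u} [CommRing R] (f : σ → τ)
    (hf : Function.Injective f) :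
    (rename f : MvPolynomial σ R →ₐ[R] MvPolynomial τ R).toRingHom.Flat := by
  classical
  let e : ((Set.range f)ᶜ : Set τ) ⊕ σ ≃ τ :=
    (Equiv.sumComm _ _).trans
      (((Equiv.ofInjective f hf).sumCongr (Equiv.refl _)).trans (Equiv.Set.sumCompl (Set.range f)))
  let E : MvPolynomial ((Set.range f)ᶜ : Set τ) (MvPolynomial σ R) ≃ₐ[R] MvPolynomial τ R :=
    (sumAlgEquiv R _ _).symm.trans (renameEquiv R e)
  have key : (rename f : MvPolynomial σ R →ₐ[R] MvPolynomial τ R).toRingHom =
      E.toRingEquiv.toRingHom.comp C := by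
    refine MvPolynomial.ringHom_ext (fun r => ?_) fun i => ?_
    · show rename f (C r) = rename e ((sumAlgEquiv R _ _).symm (C (C r)))
      rw [← sumAlgEquiv_C_inl, AlgEquiv.symm_apply_apply, rename_C, rename_C]
    · show rename f (X i) = rename e ((sumAlgEquiv R _ _).symm (C (X i)))
      have : sumAlgEquiv R ((Set.range f)ᶜ : Set τ) σ (X (Sum.inr i)) = C (X i) := by simp
      rw [← this, AlgEquiv.symm_apply_apply, rename_X, rename_X]
      simp [e]
  rw [key]
  refine RingHom.Flat.comp ?_ (RingHom.Flat.of_bijective E.bijective)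
  rw [← MvPolynomial.algebraMap_eq, RingHom.flat_algebraMap_iff]
  infer_instance

variable (A : Type u) [CommRing A] [IsLocalRing A] (σ : Type u)

/-- The prime `𝔪 A[σ]`. -/
def genPrime : Ideal (MvPolynomial σ A) := (maximalIdeal A).map C

theorem genPrime_eq_ker : genPrime A σ = RingHom.ker (MvPolynomial.map (σ := σ) (residue A)) := by
  rw [MvPolynomial.ker_map, IsLocalRing.ker_residue]
  rfl

instance : (genPrime A σ).IsPrime := by
  rw [genPrime_eq_ker]
  exact RingHom.ker_isPrime _

/-- `A[σ]` localised at `𝔪 A[σ]`. -/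
abbrev GenRing : Type u := Localization.AtPrime (genPrime A σ)

theorem genPrime_comap_rename {τ : Type u} (f : σ → τ) (hf : Function.Injective f) :
    genPrime A σ = (genPrime A τ).comap (rename f : MvPolynomial σ A →ₐ[A] _).toRingHom := by
  ext p
  rw [Ideal.mem_comap, genPrime_eq_ker, genPrime_eq_ker, RingHom.mem_ker, RingHom.mem_ker]
  show _ ↔ MvPolynomial.map (residue A) (rename f p) = 0
  rw [MvPolynomial.map_rename, map_eq_zero_iff _ (rename_injective f hf)]

theorem maximalIdeal_genRing :
    (maximalIdeal A).map (algebraMap A (GenRing A σ)) = maximalIdeal (GenRing A σ) := by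
  rw [IsScalarTower.algebraMap_eq A (MvPolynomial σ A) (GenRing A σ), ← Ideal.map_map,
    MvPolynomial.algebraMap_eq]
  exact Localization.AtPrime.map_eq_maximalIdeal

theorem algebraMap_genRing_flat : (algebraMap A (GenRing A σ)).Flat := by
  rw [IsScalarTower.algebraMap_eq A (MvPolynomial σ A) (GenRing A σ)]
  refine RingHom.Flat.comp ?_ ?_
  · rw [RingHom.flat_algebraMap_iff]; infer_instance
  · rw [RingHom.flat_algebraMap_iff]; exact IsLocalization.flat _ (genPrime A σ).primeCompl

theorem algebraMap_genRing_isLocalHom : IsLocalHom (algebraMap A (GenRing A σ)) := by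
  refine ((IsLocalRing.local_hom_TFAE _).out 0 2).2 ?_
  exact (maximalIdeal_genRing A σ).le

variable [IsNoetherianRing A]

theorem isNoetherianRing_genRing : IsNoetherianRing (GenRing A σ) := by
  classical
  let G : Finset σ → Type u := fun s => GenRing A {x // x ∈ s}
  let inc : ∀ s t : Finset σ, s ≤ t → {x // x ∈ s} → {x // x ∈ t} := fun s t h x => ⟨x, h x.2⟩
  have hinc : ∀ s t h, Function.Injective (inc s t h) := fun s t h x y hxy =>
    Subtype.ext (congrArg Subtype.val hxy :)
  let f : ∀ s t, s ≤ t → G s →+* G t := fun s t h =>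
    Localization.localRingHom _ _ _ (genPrime_comap_rename A _ (inc s t h) (hinc s t h))
  let g : ∀ s, G s →+* GenRing A σ := fun s =>
    Localization.localRingHom _ _ _ (genPrime_comap_rename A _ Subtype.val Subtype.val_injective)
  have hcongr : ∀ {α β : Type u} (p q : MvPolynomial α A →+* MvPolynomial β A)
      (hp : genPrime A α = (genPrime A β).comap p) (hq : genPrime A α = (genPrime A β).comap q),
      p = q → Localization.localRingHom _ _ p hp = Localization.localRingHom _ _ q hq := by
    intro α β p q hp hq hpq
    subst hpq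
    rfl
  have hg : ∀ s t (h : s ≤ t), (g t).comp (f s t h) = g s := fun s t h => by
    refine (Localization.localRingHom_comp _ _ _ _ _ _ _).symm.trans (hcongr _ _ _ _ ?_)
    refine RingHom.ext fun x => ?_
    show rename Subtype.val (rename (inc s t h) x) = rename Subtype.val x
    rw [rename_rename]
    rfl
  haveI : DirectedSystem G fun s t h => f s t h := by
    constructor
    · intro s x
      show f s s le_rfl x = x
      have : f s s le_rfl = RingHom.id _ := by
        refine Localization.localRingHom_unique _ _ _ _ fun y => ?_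
        show algebraMap _ _ y = algebraMap _ _ (rename (inc s s le_rfl) y)
        rw [show inc s s le_rfl = id from rfl, rename_id_apply]
      rw [this]; rfl
    · intro t s r h1 h2 x
      show f s t h2 (f r s h1 x) = f r t (h1.trans h2) x
      have : (f s t h2).comp (f r s h1) = f r t (h1.trans h2) := by
        refine (Localization.localRingHom_comp _ _ _ _ _ _ _).symm.trans (hcongr _ _ _ _ ?_)
        refine RingHom.ext fun y => ?_
        show rename (inc s t h2) (rename (inc r s h1) y) = rename (inc r t (h1.trans h2)) y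
        rw [rename_rename]
        rfl
      rw [← this]; rfl
  have hsurj : ∀ b : GenRing A σ, ∃ s x, g s x = b := by
    intro b
    obtain ⟨x, y, rfl⟩ := IsLocalization.exists_mk'_eq (genPrime A σ).primeCompl b
    obtain ⟨s, q₁, q₂, h1, h2⟩ := exists_finset_rename₂ x (y : MvPolynomial σ A)
    have hq₂ : q₂ ∈ (genPrime A {x // x ∈ s}).primeCompl := fun hq => y.2 (by
      rw [h2]
      rw [SetLike.mem_coe, genPrime_comap_rename A _ Subtype.val Subtype.val_injective] at hq
      exact hq)
    refine ⟨s, IsLocalization.mk' _ q₁ ⟨q₂, hq₂⟩, ?_⟩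
    show Localization.localRingHom _ _ _ _ _ = _
    refine (Localization.localRingHom_mk' _ _ _ _ _ _).trans ?_
    congr 1
    · exact h1.symm
    · exact Subtype.ext h2.symm
  have hflatg : ∀ s, (g s).Flat := fun s => RingHom.Flat.localRingHom
    (rename_flat Subtype.val Subtype.val_injective) _ _
      (genPrime_comap_rename A _ Subtype.val Subtype.val_injective)
  have hinj : ∀ s, Function.Injective (g s) := by
    intro s
    letI := (g s).toAlgebra
    haveI : IsLocalHom (algebraMap (G s) (GenRing A σ)) :=
      Localization.isLocalHom_localRingHom _ _ _ _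
    haveI : Module.Flat (G s) (GenRing A σ) := hflatg s
    haveI : Module.FaithfullyFlat (G s) (GenRing A σ) :=
      Module.FaithfullyFlat.of_flat_of_isLocalHom
    exact (FaithfulSMul.algebraMap_injective (G s) (GenRing A σ) :)
  have hker : ∀ s x, g s x = 0 → ∃ t, ∃ h : s ≤ t, f s t h x = 0 := fun s x hx =>
    ⟨s, le_rfl, by rw [(map_eq_zero_iff _ (hinj s)).1 hx, map_zero]⟩
  have hmax : ∀ s t (h : s ≤ t), (maximalIdeal (G s)).map (f s t h) = maximalIdeal (G t) := by
    intro s t h
    show (maximalIdeal (GenRing A {x // x ∈ s})).map _ = maximalIdeal (GenRing A {x // x ∈ t})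
    rw [← maximalIdeal_genRing, ← maximalIdeal_genRing, Ideal.map_map]
    congr 1
    refine RingHom.ext fun a => ?_
    rw [RingHom.comp_apply, IsScalarTower.algebraMap_apply A (MvPolynomial {x // x ∈ s} A)
      (GenRing A {x // x ∈ s}), IsScalarTower.algebraMap_apply A (MvPolynomial {x // x ∈ t} A)
      (GenRing A {x // x ∈ t})]
    show Localization.localRingHom _ _ _ _ _ = _
    refine (Localization.localRingHom_to_map _ _ _ _ _).trans (congrArg _ ?_)
    show rename (inc s t h) (C a) = C a
    rw [rename_C]
  haveI : ∀ s, IsNoetherianRing (G s) := fun s => inferInstanceAs (IsNoetherianRing (GenRing A _))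
  exact isNoetherianRing_union G f g hg hsurj hker
    (fun s t h => Localization.isLocalHom_localRingHom _ _ _ _) hmax
    (fun s t h => RingHom.Flat.localRingHom (rename_flat (inc s t h) (hinc s t h)) _ _ _)

omit [IsNoetherianRing A] in
/-- For algebraically independent elements, the generic ring maps to the field with kernel the
maximal ideal. -/
theorem exists_genRing_hom {K : Type u} [Field K] [Algebra (ResidueField A) K] (v : σ → K)
    (hv : AlgebraicIndependent (ResidueField A) v) :
    ∃ φ : GenRing A σ →+* K, RingHom.ker φ = maximalIdeal (GenRing A σ) ∧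
      (∀ a, φ (algebraMap A _ a) = algebraMap (ResidueField A) K (residue A a)) ∧
      ∀ i, φ (algebraMap (MvPolynomial σ A) _ (X i)) = v i := by
  let ψ : MvPolynomial σ A →+* K :=
    (MvPolynomial.aeval v : MvPolynomial σ (ResidueField A) →ₐ[ResidueField A] K).toRingHom.comp
      (MvPolynomial.map (residue A))
  have hψ : ∀ p, ψ p = 0 ↔ p ∈ genPrime A σ := by
    intro p
    rw [genPrime_eq_ker, RingHom.mem_ker]
    exact map_eq_zero_iff _ hv
  let φ : GenRing A σ →+* K := IsLocalization.lift (M := (genPrime A σ).primeCompl) (g := ψ)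
    fun y => isUnit_iff_ne_zero.2 fun h => y.2 ((hψ _).1 h)
  refine ⟨φ, IsLocalRing.eq_maximalIdeal (Ideal.IsMaximal.mk ?_), fun a => ?_, fun i => ?_⟩
  · refine ⟨RingHom.ker_ne_top φ, fun J hJ => ?_⟩
    by_contra hne
    obtain ⟨z, hzJ, hz⟩ := SetLike.exists_of_lt hJ
    have hzm : z ∈ maximalIdeal (GenRing A σ) := IsLocalRing.le_maximalIdeal hne hzJ
    rw [← Localization.AtPrime.map_eq_maximalIdeal] at hzm
    refine hz ((Ideal.map_le_iff_le_comap (K := RingHom.ker φ)).2 (fun p hp => ?_) hzm)
    show φ (algebraMap _ _ p) = 0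
    rw [IsLocalization.lift_eq]
    exact (hψ p).2 hp
  · show φ (algebraMap A (GenRing A σ) a) = _
    rw [IsScalarTower.algebraMap_apply A (MvPolynomial σ A) (GenRing A σ)]
    simp only [φ, IsLocalization.lift_eq, MvPolynomial.algebraMap_eq, ψ, RingHom.comp_apply,
      MvPolynomial.map_C]
    exact MvPolynomial.aeval_C v (residue A a)
  · simp only [φ, IsLocalization.lift_eq, ψ, RingHom.comp_apply, MvPolynomial.map_X]
    exact MvPolynomial.aeval_X v i

end GrothLib.Gonflement
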