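import Groth.Agent.Lib.Gonflement.Algebraic
import Groth.Agent.Lib.Gonflement.Transcendental
import Mathlib.RingTheory.AlgebraicIndependent.TranscendenceBasis
import Mathlib.SetTheory.Cardinal.Order

/-!
# Existence of flat local extensions with prescribed residue field (EGA 0_III 10.3.1)
-/

universe u

noncomputable section

namespace GrothLib.Gonflement

open IsLocalRing

variable {R : Type u} [CommRing R] [IsLocalRing R] [IsNoetherianRing R]
variable {K : Type u} [Field K] [Algebra R K]

theorem exists_flat_local_of_integral {ι : Type u} [LinearOrder ι] [WellFoundedLT ι] (x : ι → K)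
    (hk : RingHom.ker (algebraMap R K) = maximalIdeal R) (hx : ∀ i, IsIntegral R (x i))
    (hgen : Function.Surjective (MvPolynomial.aeval x : MvPolynomial ι R →ₐ[R] K)) :
    ∃ (B : Type u) (_ : CommRing B) (φ : R →+* B) (ψ : B →+* K), IsNoetherianRing B ∧
      IsLocalRing B ∧ φ.Flat ∧ Function.Surjective ψ ∧
      RingHom.ker ψ = (maximalIdeal R).map φ ∧ ψ.comp φ = algebraMap R K ∧
      (Finite ι → φ.Finite) := by
  classical
  choose D hD using fun i => exists_min_datum (R := R) x i (hx i)
  obtain ⟨hN, hL, hF, hS, hK⟩ := bigRing_spec x D hk hD hgen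
  refine ⟨BigRing x D, inferInstance, algebraMap R _, (bigEval x D).toRingHom, hN, hL, hF, hS, hK,
    (bigEval x D).comp_algebraMap, fun hfin => ?_⟩
  haveI := Fintype.ofFinite ι
  let S : Stage x D := ⟨Finset.univ, fun i _ => Finset.subset_univ _⟩
  have hsurj : Function.Surjective (toBig x D S) := by
    intro b
    obtain ⟨p, rfl⟩ := Ideal.Quotient.mk_surjective b
    refine ⟨Ideal.Quotient.mk _ (MvPolynomial.rename (fun i => ⟨i, Finset.mem_univ i⟩) p), ?_⟩
    show Ideal.Quotient.mk _ (MvPolynomial.rename Subtype.val (MvPolynomial.rename _ p)) = _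
    rw [MvPolynomial.rename_rename]
    exact congrArg _ (MvPolynomial.rename_id_apply p)
  haveI := (good x D hk hD _ S rfl).1
  rw [RingHom.finite_algebraMap]
  exact Module.Finite.of_surjective (toBig x D S).toLinearMap hsurj

theorem exists_flat_local (K : Type u) [Field K] [Algebra (ResidueField R) K] :
    ∃ (B : Type u) (_ : CommRing B) (φ : R →+* B) (ψ : B →+* K), IsNoetherianRing B ∧
      IsLocalRing B ∧ φ.Flat ∧ Function.Surjective ψ ∧
      RingHom.ker ψ = (maximalIdeal R).map φ ∧
      ψ.comp φ = (algebraMap (ResidueField R) K).comp (residue R) := by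
  classical
  obtain ⟨T, hT⟩ := exists_isTranscendenceBasis (ResidueField R) K
  obtain ⟨φ₁, hker, hφ, hX⟩ := exists_genRing_hom R ↥T ((↑) : T → K) hT.1
  haveI := isNoetherianRing_genRing R ↥T
  letI : Algebra (GenRing R ↥T) K := φ₁.toAlgebra
  haveI hL : Algebra.IsAlgebraic
      (IntermediateField.adjoin (ResidueField R) (Set.range ((↑) : T → K))) K :=
    hT.isAlgebraic_field
  haveI : (RingHom.ker φ₁).IsMaximal := hker ▸ maximalIdeal.isMaximal _
  have hrange : IsField φ₁.range :=
    MulEquiv.isField ((Ideal.Quotient.maximal_ideal_iff_isField_quotient _).1 ‹_›)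
      (RingHom.quotientKerEquivRange φ₁).toMulEquiv.symm
  have hinv : ∀ z : K, z ∈ φ₁.range → z⁻¹ ∈ φ₁.range := by
    intro z hz
    by_cases h0 : z = 0
    · subst h0; rw [inv_zero]; exact zero_mem _
    · obtain ⟨w, hw⟩ := hrange.mul_inv_cancel
        (show (⟨z, hz⟩ : φ₁.range) ≠ 0 from fun h => h0 (congrArg Subtype.val h))
      rw [inv_eq_of_mul_eq_one_right (congrArg Subtype.val hw)]
      exact w.2
  let F : IntermediateField (ResidueField R) K :=
    { carrier := φ₁.range
      mul_mem' := mul_mem
      one_mem' := one_mem _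
      add_mem' := add_mem
      zero_mem' := zero_mem _
      algebraMap_mem' := fun c => by
        obtain ⟨a, rfl⟩ := residue_surjective c
        exact ⟨algebraMap R _ a, hφ a⟩
      inv_mem' := hinv }
  have hle : IntermediateField.adjoin (ResidueField R) (Set.range ((↑) : T → K)) ≤ F :=
    IntermediateField.adjoin_le_iff.2 (by rintro _ ⟨t, rfl⟩; exact ⟨_, hX t⟩)
  have hint : ∀ y : K, IsIntegral (GenRing R ↥T) y := by
    intro y
    obtain ⟨p, hp, hp0⟩ := (hL.isAlgebraic y).isIntegral
    have hlift : p.map (algebraMap _ K) ∈ Polynomial.lifts φ₁ := by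
      rw [Polynomial.lifts_iff_coeff_lifts]
      intro n
      rw [Polynomial.coeff_map]
      exact hle (p.coeff n).2
    obtain ⟨q, hq1, -, hq3⟩ := Polynomial.lifts_and_natDegree_eq_and_monic hlift (hp.map _)
    refine ⟨q, hq3, ?_⟩
    show Polynomial.eval₂ φ₁ y q = 0
    rw [← Polynomial.eval_map, hq1, Polynomial.eval_map]
    exact hp0
  letI : LinearOrder K := linearOrderOfSTO WellOrderingRel
  haveI : WellFoundedLT K := ⟨(IsWellFounded.wf : WellFounded (WellOrderingRel : K → K → Prop))⟩
  obtain ⟨B, _, φ₂, ψ, hN, hLo, hF, hS, hK, hcomp, -⟩ :=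
    exists_flat_local_of_integral (R := GenRing R ↥T) (id : K → K) hker hint
      (fun c => ⟨MvPolynomial.X c, by simp⟩)
  refine ⟨B, inferInstance, φ₂.comp (algebraMap R _), ψ, hN, hLo,
    RingHom.Flat.comp (algebraMap_genRing_flat R ↥T) hF, hS, ?_, ?_⟩
  · rw [hK, ← Ideal.map_map, maximalIdeal_genRing]
  · rw [← RingHom.comp_assoc, hcomp]
    exact RingHom.ext hφ

end GrothLib.Gonflement
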